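import Mathlib
import Cfsg.Agent.Lib.Forms.Max.SympExt

/-!
# Skew quadratic extensions of four-dimensional symplectic space
-/

set_option autoImplicit false
set_option linter.unusedSectionVars false

namespace Cfsg.Agent.Forms.Max.SpFour

open Matrix Cfsg.Agent.Aschbacher Cfsg.Agent.Forms.SympStd Cfsg.Agent.Forms.Max.Symp
  Cfsg.Agent.Forms.Max.SympExt

variable {F : Type*} [Field F] [Fintype F] {m : ℕ}

local notation "Vec" => (Fin m ⊕ Fin m → F)
local notation "GLm" => GL (Fin m ⊕ Fin m) F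
local notation "B" => sympB m F
local notation "Mat" => Matrix (Fin m ⊕ Fin m) (Fin m ⊕ Fin m) F

theorem spTrv_mul (z : Vec) (s t : F) : (spTrv z s * spTrv z t : GLm) = spTrv z (s + t) := gl_ext fun x => by
  simp only [mulVec_mul_GL, spTrv_apply, map_add, map_smul, LinearMap.add_apply, LinearMap.smul_apply, B_self,
    smul_eq_mul, mul_zero, add_zero]
  module

theorem spTrv_zero (z : Vec) : (spTrv z 0 : GLm) = 1 := gl_ext fun x => by
  simp [spTrv_apply]

variable (D : Data F m)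

/-- the tori of a line and its translates under transvections give a centre -/
theorem exists_centre_line {M : Subgroup GLm} (hMK : M ≤ Cfsg.spGL m F) (hM : RatM D M) {r : Vec}
    (hr : phi D r ≠ 0) {k : F} (hk0 : k ≠ 0) (hk1 : k + 1 ≠ 0) (hk2 : 1 + D.d * (k * k) ≠ 0)
    (hY : ∀ t : F, ∀ R ∈ M, (∃ α β : F, α * α - D.d * (β * β) = 1 ∧
      ∀ x, (R : Mat) *ᵥ x = x + (α - 1) • proj D r x + β • D.T (proj D r x)) →
      spTrv r t * R * spTrv r (-t) ∈ M) :
    ∃ x, phi D x ≠ 0 ∧ x ∈ centres M := by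
  classical
  have hd := D.hd
  have h2 := D.h2
  set d := D.d with hddef
  have hrot : ∀ α β : F, α * α - d * (β * β) = 1 → ∃ R ∈ M, R ∈ Cfsg.spGL m F ∧
      ∀ x, (R : Mat) *ᵥ x = x + (α - 1) • proj D r x + β • D.T (proj D r x) :=
    fun α β h => exists_rot D hM hr h
  let gens : Set GLm := {Y | ∃ t : F, ∃ R : GLm, R ∈ M ∧ (∃ α β : F, α * α - d * (β * β) = 1 ∧
    ∀ x, (R : Mat) *ᵥ x = x + (α - 1) • proj D r x + β • D.T (proj D r x)) ∧
    Y = spTrv r t * R * spTrv r (-t)}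
  let S : Subgroup GLm := Subgroup.closure gens
  have hSM : S ≤ M := (Subgroup.closure_le _).2 (by
    rintro Y ⟨t, R, hR, he, rfl⟩
    exact hY t R hR he)
  have hSR : ∀ R ∈ M, (∃ α β : F, α * α - d * (β * β) = 1 ∧
      ∀ x, (R : Mat) *ᵥ x = x + (α - 1) • proj D r x + β • D.T (proj D r x)) → R ∈ S := fun R hR he =>
    Subgroup.subset_closure ⟨0, R, hR, he, by rw [neg_zero, spTrv_zero, one_mul, mul_one]⟩
  let N : Subgroup GLm := Subgroup.normalizer (S : Set GLm) ⊓ Cfsg.spGL m F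
  have hrN : r ∈ centres N := fun c => by
    refine ⟨?_, spTrv_mem r c⟩
    have hgen : ∀ c : F, ∀ n ∈ S, spTrv r c * n * (spTrv r c)⁻¹ ∈ S := by
      intro c n hn
      induction hn using Subgroup.closure_induction with
      | mem Y hY =>
        obtain ⟨t, R, hR, he, rfl⟩ := hY
        refine Subgroup.subset_closure ⟨c + t, R, hR, he, ?_⟩
        rw [mul_inv_eq_iff_eq_mul]
        simp only [mul_assoc, spTrv_mul]
        rw [show -(c + t) + c = -t by ring, ← mul_assoc, ← mul_assoc, spTrv_mul, ← mul_assoc]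
      | one => simp
      | mul x y _ _ hx hy =>
        have e : spTrv r c * (x * y) * (spTrv r c)⁻¹ =
            (spTrv r c * x * (spTrv r c)⁻¹) * (spTrv r c * y * (spTrv r c)⁻¹) := by group
        rw [e]; exact mul_mem hx hy
      | inv x _ hx =>
        have e : spTrv r c * x⁻¹ * (spTrv r c)⁻¹ = (spTrv r c * x * (spTrv r c)⁻¹)⁻¹ := by group
        rw [e]; exact inv_mem hx
    have hinv : (spTrv r c : GLm)⁻¹ = spTrv r (-c) := inv_eq_of_mul_eq_one_right (by
      rw [spTrv_mul, add_neg_cancel]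
      exact spTrv_zero r)
    refine Subgroup.mem_normalizer_iff.2 fun n => ⟨fun hn => hgen c n hn, fun hn => ?_⟩
    have := hgen (-c) _ hn
    rw [← hinv] at this
    simpa [mul_assoc] using this
  obtain ⟨α, β, hαβ, hβ⟩ := exists_norm_one D
  obtain ⟨R₀, hR₀, hR₀K, hR₀x⟩ := hrot α β hαβ
  have hpr : proj D r r = r := by
    rw [SympExt.phi_apply] at hr
    simp only [proj, B_self, zero_smul, sub_zero, SympExt.phi_apply, smul_smul, inv_mul_cancel₀ hr, one_smul]
  have hr'N : α • r + β • D.T r ∈ centres N := by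
    have := centres_map hR₀K (show R₀ ∈ N from
      ⟨Subgroup.le_normalizer (hSR R₀ hR₀ ⟨α, β, hαβ, hR₀x⟩), hR₀K⟩) hrN
    rwa [hR₀x, hpr, show r + (α - 1) • r + β • D.T r = α • r + β • D.T r by module] at this
  have hne : B r (α • r + β • D.T r) ≠ 0 := by
    rw [map_add, map_smul, map_smul, B_self, smul_zero, zero_add, smul_eq_mul]
    exact mul_ne_zero hβ hr
  have hplane : ∀ a b : F, a • r + b • D.T r ∈ centres N := by
    intro a b
    rcases eq_or_ne (a - b * α / β) 0 with h0 | h0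
    · have := centres_smul (b / β) hr'N
      rwa [smul_add, smul_smul, smul_smul, div_mul_cancel₀ _ hβ, show b / β * α = a by
        rw [sub_eq_zero.1 h0]; ring] at this
    · have h0' : a * β - b * α ≠ 0 := fun e => h0 (by field_simp; linear_combination e)
      have h1 := centres_map (spTrv_mem (α • r + β • D.T r) (b / β / (a - b * α / β) / B r (α • r + β • D.T r)))
        (hr'N _) hrN
      rw [spTrv_apply, div_mul_cancel₀ _ hne] at h1
      have := centres_smul (a - b * α / β) h1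
      convert this using 1
      match_scalars <;> field_simp <;> ring
  -- an explicit transvection
  have hkd : d * (k * k) * (k * k) - 1 ≠ 0 := fun e => hd (d * (k * k)) (by linear_combination d * e)
  have hd1 : (1 : F) - d ≠ 0 := fun e => hd 1 (by linear_combination e)
  obtain ⟨R₁, hR₁, -, hR₁x⟩ := hrot ((1 + d) / (1 - d)) (2 / (1 - d)) (by field_simp; ring)
  have hnorm : (d * (k * k) * (k * k) + 1) / (d * (k * k) * (k * k) - 1) *
      ((d * (k * k) * (k * k) + 1) / (d * (k * k) * (k * k) - 1)) -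
      d * (2 * (k * k) / (d * (k * k) * (k * k) - 1) * (2 * (k * k) / (d * (k * k) * (k * k) - 1))) = 1 := by
    rw [div_mul_div_comm, div_mul_div_comm, ← mul_div_assoc, ← sub_div, div_eq_one_iff_eq (mul_ne_zero hkd hkd)]
    ring
  obtain ⟨R₂, hR₂, -, hR₂x⟩ := hrot ((d * (k * k) * (k * k) + 1) / (d * (k * k) * (k * k) - 1))
    (2 * (k * k) / (d * (k * k) * (k * k) - 1)) hnorm
  have hR₁S := hSR R₁ hR₁ ⟨_, _, by field_simp; ring, hR₁x⟩
  set e := phi D r with he
  set z := (1 + d * k) • r + (k + 1) • D.T r with hz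
  set c := 2 * (1 + d * (k * k)) / ((1 - d) * (d * (k * k) * (k * k) - 1) * e) with hc
  set s := -((1 + d * (k * k)) / k) / e with hs
  have hX : spTrv z c ∈ S := by
    have hY2 : spTrv r s * R₂ * spTrv r (-s) ∈ S :=
      Subgroup.subset_closure ⟨s, R₂, hR₂, ⟨_, _, hnorm, hR₂x⟩, rfl⟩
    refine (show R₁ * (spTrv r s * R₂ * spTrv r (-s)) = spTrv z c from gl_ext fun x => ?_) ▸ mul_mem hR₁S hY2
    have heB : B r (D.T r) = e := rfl
    have heB' : B (D.T r) r = -e := by rw [B_swap, heB]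
    simp only [mulVec_mul_GL, hR₁x, hR₂x, spTrv_apply, proj, ← he, hz, map_add, map_sub, map_smul,
      LinearMap.add_apply, LinearMap.sub_apply, LinearMap.smul_apply, smul_eq_mul, B_self, heB, heB', D.hTT,
      ← hddef]
    have hzero : e ≠ 0 := hr
    have hkd' : d * k ^ 4 - 1 ≠ 0 := fun e' => hkd (by linear_combination e')
    have hkd'' : k ^ 4 * d - 1 ≠ 0 := fun e' => hkd (by linear_combination e')
    rw [hc, hs]
    match_scalars <;> field_simp <;> ring
  have hzphi : phi D z ≠ 0 := by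
    refine phi_line D hr ((mem_line D).2 ⟨_, _, rfl⟩) fun e0 => ?_
    exact hk1 (indep D (fun e1 => hr (by rw [he, e1, QuadraticMap.map_zero])) e0).2
  refine ⟨z, hzphi, fun c' => hSM ?_⟩
  -- all multiples
  have hsq : ∀ μ : F, spTrv z (c * (μ * μ)) ∈ S := by
    intro μ
    rcases eq_or_ne μ 0 with rfl | hμ
    · rw [mul_zero, mul_zero]
      have : (spTrv z 0 : GLm) = 1 := gl_ext fun x => by simp [spTrv_apply]
      rw [this]; exact one_mem S
    obtain ⟨n, hnN, hn⟩ : ∃ n ∈ N, (n : Mat) *ᵥ z = μ • z := by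
      have hTz : D.T z = ((k + 1) * d) • r + (1 + d * k) • D.T r := by
        rw [hz, map_add, map_smul, map_smul, D.hTT, ← hddef]; module
      have hmove : ∀ a b : F, b ≠ 0 → ∀ p q : Vec, p = a • z + 0 • D.T z → B p q ≠ 0 →
          (∃ a' b' : F, q = a' • r + b' • D.T r) → (∃ a' b' : F, p = a' • r + b' • D.T r) →
          ∃ n ∈ N, (n : Mat) *ᵥ p = q := by
        intro a b _ p q _ hpq hq hp
        obtain ⟨a', b', rfl⟩ := hq
        obtain ⟨a'', b'', rfl⟩ := hp
        refine ⟨spTrv ((a' - a'') • r + (b' - b'') • D.T r) (B (a'' • r + b'' • D.T r) (a' • r + b' • D.T r))⁻¹,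
          hplane _ _ _, ?_⟩
        rw [spTrv_apply, show (a' - a'') • r + (b' - b'') • D.T r =
          (a' • r + b' • D.T r) - (a'' • r + b'' • D.T r) by module, map_sub, B_self, sub_zero,
          inv_mul_cancel₀ hpq, one_smul, add_sub_cancel]
      obtain ⟨n₁, hn₁, hn₁z⟩ := hmove 1 1 one_ne_zero z (D.T z) (by module) hzphi ⟨_, _, hTz⟩ ⟨_, _, hz⟩
      obtain ⟨n₂, hn₂, hn₂z⟩ : ∃ n ∈ N, (n : Mat) *ᵥ D.T z = μ • z := by
        refine ⟨spTrv (μ • z - D.T z) (B (D.T z) (μ • z))⁻¹, ?_, ?_⟩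
        · rw [hTz, hz, smul_add, smul_smul, smul_smul]
          rw [show (μ * (1 + d * k)) • r + (μ * (k + 1)) • D.T r - (((k + 1) * d) • r + (1 + d * k) • D.T r) =
            (μ * (1 + d * k) - (k + 1) * d) • r + (μ * (k + 1) - (1 + d * k)) • D.T r by module]
          exact hplane _ _ _
        · rw [spTrv_apply, map_sub, B_self, sub_zero, inv_mul_cancel₀, one_smul, add_sub_cancel]
          rw [map_smul, smul_eq_mul, B_swap z (D.T z)]
          exact mul_ne_zero hμ (neg_ne_zero.2 hzphi)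
      exact ⟨n₂ * n₁, mul_mem hn₂ hn₁, by rw [mulVec_mul_GL, hn₁z, hn₂z]⟩
    have := (Subgroup.mem_normalizer_iff.1 hnN.1 _).1 hX
    refine (show n * spTrv z c * n⁻¹ = spTrv z (c * (μ * μ)) from ?_) ▸ this
    rw [mul_inv_eq_iff_eq_mul]
    refine gl_ext fun x => ?_
    have hx := mem_spGL_iff.1 hnN.2 x z
    rw [hn, map_smul, smul_eq_mul] at hx
    rw [mulVec_mul_GL, mulVec_mul_GL, spTrv_apply, spTrv_apply, mulVec_add, mulVec_smul, hn, ← hx]
    module
  have hcne : c ≠ 0 :=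
    div_ne_zero (mul_ne_zero h2 hk2) (mul_ne_zero (mul_ne_zero hd1 hkd) hr)
  have h1 := hsq ((c' / c + 1) / 2)
  have h3 := inv_mem (hsq ((c' / c - 1) / 2))
  have := mul_mem h1 h3
  refine (show spTrv z (c * ((c' / c + 1) / 2 * ((c' / c + 1) / 2))) *
    (spTrv z (c * ((c' / c - 1) / 2 * ((c' / c - 1) / 2))))⁻¹ = spTrv z c' from ?_) ▸ this
  rw [mul_inv_eq_iff_eq_mul, spTrv_mul]
  congr 1
  field_simp
  ring

/-- a non-isotropic centre in dimension four -/
theorem exists_centre (D : Data F 2) (hk : ∃ k : F, k ≠ 0 ∧ k + 1 ≠ 0 ∧ 1 + D.d * (k * k) ≠ 0)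
    {M : Subgroup (GL (Fin 2 ⊕ Fin 2) F)} (hMK : M ≤ Cfsg.spGL 2 F) (hM : RatM D M) {g : GL (Fin 2 ⊕ Fin 2) F}
    (hg : g ∈ M)
    (h1 : ¬ ∀ x, (g : Matrix (Fin 2 ⊕ Fin 2) (Fin 2 ⊕ Fin 2) F) *ᵥ D.T x =
      D.T ((g : Matrix (Fin 2 ⊕ Fin 2) (Fin 2 ⊕ Fin 2) F) *ᵥ x))
    (h2 : ¬ ∀ x, (g : Matrix (Fin 2 ⊕ Fin 2) (Fin 2 ⊕ Fin 2) F) *ᵥ D.T x =
      -D.T ((g : Matrix (Fin 2 ⊕ Fin 2) (Fin 2 ⊕ Fin 2) F) *ᵥ x)) :
    ∃ x, phi D x ≠ 0 ∧ x ∈ centres M := by
  obtain ⟨k, hk0, hk1, hk2⟩ := hk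
  obtain ⟨u₀, hu₀, hu₀0, hbad₀⟩ := exists_bad D (hMK hg) h1 h2
  have hgB := mem_spGL_iff.1 (hMK hg)
  have h2' := D.h2
  -- a non-isotropic vector in the image of the line
  obtain ⟨u, hu, hu0, hbad, hphi⟩ : ∃ u, phi D u = 0 ∧ u ≠ 0 ∧
      (g : Matrix (Fin 2 ⊕ Fin 2) (Fin 2 ⊕ Fin 2) F) *ᵥ D.T u ∉
        line D ((g : Matrix (Fin 2 ⊕ Fin 2) (Fin 2 ⊕ Fin 2) F) *ᵥ u) ∧
      phi D ((g : Matrix (Fin 2 ⊕ Fin 2) (Fin 2 ⊕ Fin 2) F) *ᵥ u) ≠ 0 := by
    set v := (g : Matrix (Fin 2 ⊕ Fin 2) (Fin 2 ⊕ Fin 2) F) *ᵥ u₀ with hv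
    set w := (g : Matrix (Fin 2 ⊕ Fin 2) (Fin 2 ⊕ Fin 2) F) *ᵥ D.T u₀ with hw
    by_cases h0 : phi D v = 0
    swap
    · exact ⟨u₀, hu₀, hu₀0, hbad₀, h0⟩
    have hvw : sympB 2 F v w = 0 := by rw [hv, hw, hgB]; exact hu₀
    have hv0 : v ≠ 0 := Max.mulVec_ne_zero g hu₀0
    have hb : sympB 2 F v (D.T w) ≠ 0 := by
      intro hb
      -- otherwise the line of `v` would contain `w`
      have hA : sympB 2 F v (D.T v) = 0 := h0
      let f : (Fin 2 ⊕ Fin 2 → F) →ₗ[F] F × F := (sympB 2 F v).prod (sympB 2 F (D.T v))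
      have hsurj : Function.Surjective f := by
        rw [← LinearMap.range_eq_top]
        by_contra hne
        obtain ⟨φ, hφ0, hφ⟩ := Submodule.exists_le_ker_of_lt_top _ (lt_top_iff_ne_top.2 hne)
        have key : ∀ x, φ (1, 0) * sympB 2 F v x + φ (0, 1) * sympB 2 F (D.T v) x = 0 := fun x => by
          have h3 : φ (f x) = 0 := hφ ⟨x, rfl⟩
          rw [show f x = (sympB 2 F v x) • ((1 : F), (0 : F)) + (sympB 2 F (D.T v) x) • ((0 : F), (1 : F)) by
            simp [f], map_add, map_smul, map_smul, smul_eq_mul, smul_eq_mul] at h3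
          linear_combination h3
        have hz := nondeg.1 (φ (1, 0) • v + φ (0, 1) • D.T v) fun x => by simpa using key x
        obtain ⟨e1, e2⟩ := indep D hv0 hz
        exact hφ0 (LinearMap.ext fun p => by
          rw [show p = p.1 • ((1 : F), (0 : F)) + p.2 • ((0 : F), (1 : F)) by simp, map_add, map_smul, map_smul,
            e1, e2]
          simp)
      have h3 := LinearMap.finrank_range_add_finrank_ker f
      rw [LinearMap.range_eq_top.2 hsurj, finrank_top, Module.finrank_prod, Module.finrank_self,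
        SympStd.finrank_vec] at h3
      have hle : line D v ≤ LinearMap.ker f := by
        intro x hx
        obtain ⟨s, t, rfl⟩ := (mem_line D).1 hx
        simp [f, D.hadj, hA, D.hTT, B_self]
      have hdim : 2 ≤ Module.finrank F (line D v) := by
        have hli : LinearIndependent F ![v, D.T v] := LinearIndependent.pair_iff.2 fun s t h => indep D hv0 h
        have := finrank_span_eq_card hli
        rw [Matrix.range_cons_cons_empty, Fintype.card_fin] at this
        exact this.ge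
      have heq := Submodule.eq_of_le_of_finrank_le hle (by omega)
      refine hbad₀ (show w ∈ line D v from ?_)
      rw [heq]
      simp [f, hvw, D.hadj, hb]
    -- move along the line
    obtain ⟨t, ht0, ht⟩ : ∃ t : F, t ≠ 0 ∧ phi D (v + t • w) ≠ 0 := by
      have e : ∀ t : F, phi D (v + t • w) = t * (t * phi D w + 2 * sympB 2 F v (D.T w)) := fun t => by
        rw [Classical.Orth.map_add', h0, Classical.Orth.map_smul', QuadraticMap.polar_smul_right, polar_phi,
          smul_eq_mul]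
        ring
      by_cases h : phi D w + 2 * sympB 2 F v (D.T w) = 0
      · refine ⟨-1, neg_ne_zero.2 one_ne_zero, fun h3 => hb ?_⟩
        rw [e] at h3
        have h4 : 2 * (2 * sympB 2 F v (D.T w)) = 0 := by linear_combination h - h3
        exact (mul_eq_zero.1 ((mul_eq_zero.1 h4).resolve_left h2')).resolve_left h2'
      · refine ⟨1, one_ne_zero, fun h3 => h ?_⟩
        rw [e] at h3
        linear_combination h3
    refine ⟨u₀ + t • D.T u₀, ?_, fun e => one_ne_zero (indep D hu₀0 (s := 1) (t := t)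
      (by rw [one_smul]; exact e)).1, fun hm => hbad₀ ?_, ?_⟩
    · have hB0 : sympB 2 F u₀ (D.T u₀) = 0 := hu₀
      simp only [SympExt.phi_apply, map_add, map_smul, LinearMap.add_apply, LinearMap.smul_apply, D.hTT, D.hadj, B_self,
        hB0, smul_eq_mul]
      ring
    · simp only [map_add, map_smul, D.hTT, mulVec_add, mulVec_smul, ← hv, ← hw, smul_smul] at hm
      obtain ⟨a, b, hab⟩ := (mem_line D).1 hm
      change w + (t * D.d) • v = _ at hab
      rw [map_add, map_smul] at hab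
      -- express `w`
      have hn := norm_ne D (s := 1 - a * t) (t := b * t) (by
        by_contra hc
        push Not at hc
        have hbt : b = 0 := (mul_eq_zero.1 hc.2).resolve_right ht0
        rw [hbt, zero_smul, add_zero] at hab
        have hz : (a - t * D.d) • v = 0 := by
          linear_combination (norm := module) -hab + hc.1 • w
        have ha := sub_eq_zero.1 ((smul_eq_zero.1 hz).resolve_right hv0)
        exact D.hd (a) (by linear_combination (-D.d) * hc.1 + a * ha))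
      refine (mem_line D).2 ⟨((1 - a * t) * (a - t * D.d) + b * t * (b * D.d)) /
          ((1 - a * t) * (1 - a * t) - D.d * (b * t * (b * t))),
        ((1 - a * t) * b + b * t * (a - t * D.d)) / ((1 - a * t) * (1 - a * t) - D.d * (b * t * (b * t))), ?_⟩
      show w = _
      have h4 := congrArg D.T hab
      simp only [map_add, map_smul, D.hTT, smul_smul] at h4
      refine smul_right_injective _ hn ?_
      simp only [smul_add, smul_smul, mul_div_cancel₀ _ hn]
      linear_combination (norm := module) (1 - a * t) • hab + (b * t) • h4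
    · rw [mulVec_add, mulVec_smul]; exact ht
  set v := (g : Matrix (Fin 2 ⊕ Fin 2) (Fin 2 ⊕ Fin 2) F) *ᵥ u with hv
  set w := (g : Matrix (Fin 2 ⊕ Fin 2) (Fin 2 ⊕ Fin 2) F) *ᵥ D.T u with hw
  have hv0 : v ≠ 0 := Max.mulVec_ne_zero g hu0
  have hBu : sympB 2 F u (D.T u) = 0 := hu
  have hvw : sympB 2 F v w = 0 := by rw [hv, hw, hgB]; exact hBu
  have hwv : sympB 2 F w v = 0 := by rw [B_swap, hvw, neg_zero]
  -- the transported root elements
  have hE : ∀ t : F, (spTrv w t * spTrv v (-(t * D.d)) : GL (Fin 2 ⊕ Fin 2) F) ∈ M := by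
    intro t
    have hr : spTrv (D.T u) t * spTrv u (-(t * D.d)) ∈ M := by
      refine hM _ (mul_mem (spTrv_mem _ _) (spTrv_mem _ _)) fun x => ?_
      simp only [mulVec_mul_GL, spTrv_apply, map_add, map_smul, LinearMap.add_apply, LinearMap.smul_apply, hBu,
        smul_eq_mul, mul_zero, add_zero, D.hTT, TTB, D.hadj x u]
      module
    refine (show g * (spTrv (D.T u) t * spTrv u (-(t * D.d))) * g⁻¹ = spTrv w t * spTrv v (-(t * D.d)) from
      gl_ext fun x => ?_) ▸ mul_mem (mul_mem hg hr) (inv_mem hg)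
    obtain ⟨y, rfl⟩ : ∃ y, (g : Matrix (Fin 2 ⊕ Fin 2) (Fin 2 ⊕ Fin 2) F) *ᵥ y = x :=
      ⟨_, Max.mulVec_inv_cancel g x⟩
    simp only [mulVec_mul_GL, Max.inv_mulVec_cancel, spTrv_apply, hv, hw, hgB, mulVec_add, mulVec_smul, map_add,
      map_smul, LinearMap.add_apply, LinearMap.smul_apply]
  -- the orthogonal vector of the plane
  set s := sympB 2 F v (D.T w) / phi D v with hs
  set r := w - s • v with hr
  have hwr : w = r + s • v := by rw [hr]; module
  have hvr : sympB 2 F v r = 0 := by rw [hr, map_sub, map_smul, hvw, B_self, smul_zero, sub_zero]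
  have hvTr : sympB 2 F v (D.T r) = 0 := by
    rw [hr, map_sub, map_smul, map_sub, map_smul, ← SympExt.phi_apply, hs, smul_eq_mul, div_mul_cancel₀ _ hphi, sub_self]
  obtain ⟨hrv, hrTv⟩ := kperp_sym D ⟨hvr, hvTr⟩
  have hr0 : r ≠ 0 := fun e => hbad ((mem_line D).2 ⟨s, 0, by
    show w = s • v + (0 : F) • D.T v
    rw [hwr, e]; module⟩)
  have hphir : phi D r ≠ 0 := by
    intro e
    have hB : sympB 2 F r (D.T r) = 0 := e
    have hphi' : sympB 2 F v (D.T v) ≠ 0 := hphi
    let L : (Fin 4 → F) →ₗ[F] (Fin 2 ⊕ Fin 2 → F) := Fintype.linearCombination F ![v, D.T v, r, D.T r]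
    have hL : ∀ c, L c = c 0 • v + c 1 • D.T v + c 2 • r + c 3 • D.T r := fun c => by
      simp [L, Fintype.linearCombination_apply, Fin.sum_univ_four]
    have hinj : Function.Injective L := by
      rw [injective_iff_map_eq_zero]
      intro c hc
      rw [hL] at hc
      have e1 := congrArg (sympB 2 F v) hc
      have e2 := congrArg (sympB 2 F (D.T v)) hc
      simp only [map_add, map_smul, B_self, hvr, hvTr, smul_eq_mul, mul_zero, add_zero, zero_add, map_zero] at e1
      simp only [map_add, map_smul, D.hadj, D.hTT, B_self, hvr, hvTr, smul_eq_mul, mul_zero, add_zero, zero_add,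
        map_zero, neg_zero] at e2
      have c1 := (mul_eq_zero.1 e1).resolve_right hphi'
      have c0 : c 0 = 0 := (mul_eq_zero.1 (neg_eq_zero.1 e2)).resolve_right hphi'
      rw [c0, c1, zero_smul, zero_smul, zero_add, zero_add] at hc
      obtain ⟨c2, c3⟩ := indep D hr0 hc
      funext i
      fin_cases i <;> assumption
    have hsurj : Function.Surjective L := (LinearMap.injective_iff_surjective_of_finrank_eq_finrank (by
      rw [Module.finrank_fintype_fun_eq_card, Fintype.card_fin, SympStd.finrank_vec])).1 hinj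
    refine hr0 (nondeg.1 r fun y => ?_)
    obtain ⟨c, rfl⟩ := hsurj y
    rw [hL]
    simp [hrv, hrTv, hB, B_self]
  have hprv : proj D r v = 0 := by simp [proj, hvr, hvTr]
  by_cases hs0 : s = 0
  · have hwr' : w = r := by rw [hwr, hs0, zero_smul, add_zero]
    refine exists_centre_line D hMK hM hphir hk0 hk1 hk2 fun t R hR hRx => ?_
    obtain ⟨α, β, hαβ, hRx⟩ := hRx
    have hRv : (R : Matrix (Fin 2 ⊕ Fin 2) (Fin 2 ⊕ Fin 2) F) *ᵥ v = v := by
      rw [hRx, hprv, map_zero, smul_zero, smul_zero, add_zero, add_zero]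
    have hRB := mem_spGL_iff.1 (hMK hR)
    have hE1 := hE t
    have hE2 := hE (-t)
    rw [hwr'] at hE1 hE2
    refine (show spTrv r t * spTrv v (-(t * D.d)) * R * (spTrv r (-t) * spTrv v (-(-t * D.d))) =
      spTrv r t * R * spTrv r (-t) from gl_ext fun x => ?_) ▸ mul_mem (mul_mem hE1 hR) hE2
    simp only [mulVec_mul_GL, spTrv_apply, map_add, map_smul, LinearMap.add_apply, LinearMap.smul_apply,
      mulVec_add, mulVec_smul, hRv, hrv, hvr, B_self, smul_eq_mul, mul_zero, add_zero]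
    have hx := hRB x v
    rw [hRv] at hx
    rw [hx]
    have hx' := hRB r v
    rw [hRv, hrv] at hx'
    rw [hx']
    module
  -- a Siegel element
  obtain ⟨j, hj, hj', hjx⟩ := exists_flip D hM hphir
  have hjv : (j : Matrix (Fin 2 ⊕ Fin 2) (Fin 2 ⊕ Fin 2) F) *ᵥ v = v := by
    rw [hjx, hprv, smul_zero, sub_zero]
  have hpr : proj D r r = r := by
    have hphir' : sympB 2 F r (D.T r) ≠ 0 := hphir
    simp only [proj, B_self, zero_smul, sub_zero, SympExt.phi_apply, smul_smul, inv_mul_cancel₀ hphir', one_smul]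
  have hjw : (j : Matrix (Fin 2 ⊕ Fin 2) (Fin 2 ⊕ Fin 2) F) *ᵥ w = -r + s • v := by
    rw [hwr, mulVec_add, mulVec_smul, hjv, hjx, hpr]; module
  have hsg : Sg M v r := by
    intro t
    refine ⟨spTrv w (t / (2 * s)) * spTrv v (-(t / (2 * s) * D.d)) *
      (j * (spTrv w (-(t / (2 * s))) * spTrv v (-(-(t / (2 * s)) * D.d))) * j⁻¹),
      mul_mem (hE _) (mul_mem (mul_mem hj (hE _)) (inv_mem hj)), fun x => ?_⟩
    obtain ⟨y, rfl⟩ : ∃ y, (j : Matrix (Fin 2 ⊕ Fin 2) (Fin 2 ⊕ Fin 2) F) *ᵥ y = x :=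
      ⟨_, Max.mulVec_inv_cancel j x⟩
    have hjB := mem_spGL_iff.1 hj'
    have e1 : sympB 2 F y w = -sympB 2 F ((j : Matrix (Fin 2 ⊕ Fin 2) (Fin 2 ⊕ Fin 2) F) *ᵥ y) r +
        s * sympB 2 F ((j : Matrix (Fin 2 ⊕ Fin 2) (Fin 2 ⊕ Fin 2) F) *ᵥ y) v := by
      rw [← hjB y w, hjw, map_add, map_neg, map_smul, smul_eq_mul]
    have e2 : sympB 2 F y v = sympB 2 F ((j : Matrix (Fin 2 ⊕ Fin 2) (Fin 2 ⊕ Fin 2) F) *ᵥ y) v := by
      conv_lhs => rw [← hjB y v, hjv]
    simp only [mulVec_mul_GL, Max.inv_mulVec_cancel, spTrv_apply, map_add, map_smul, LinearMap.add_apply,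
      LinearMap.smul_apply, mulVec_add, mulVec_smul, hjv, hjw, hvw, e1, e2, smul_eq_mul, mul_zero, add_zero,
      map_neg, LinearMap.neg_apply, hvr, hrv, B_self, neg_zero]
    simp only [hwr, map_add, map_smul, smul_eq_mul, hvr, hrv, B_self, mul_zero, add_zero]
    match_scalars <;> field_simp <;> ring
  -- rotate inside the line of `r`
  obtain ⟨α, β, hαβ, hβ⟩ := exists_norm_one D
  obtain ⟨L, hLM, hL', hLx⟩ := exists_rot D hM hphir hαβ
  have hLr : (L : Matrix (Fin 2 ⊕ Fin 2) (Fin 2 ⊕ Fin 2) F) *ᵥ r = α • r + β • D.T r := by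
    rw [hLx, hpr]; module
  have hLv : (L : Matrix (Fin 2 ⊕ Fin 2) (Fin 2 ⊕ Fin 2) F) *ᵥ v = v := by
    rw [hLx, hprv, map_zero, smul_zero, smul_zero, add_zero, add_zero]
  refine ⟨v, hphi, fun c => ?_⟩
  set κ := sympB 2 F r ((L : Matrix (Fin 2 ⊕ Fin 2) (Fin 2 ⊕ Fin 2) F) *ᵥ r) with hκ
  have hκ0 : κ ≠ 0 := by
    rw [hκ, hLr, map_add, map_smul, map_smul, B_self, smul_zero, zero_add, smul_eq_mul]
    exact mul_ne_zero hβ hphir
  obtain ⟨s1, hs1, hs1x⟩ := hsg (c / (2 * κ))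
  obtain ⟨s2', hs2', hs2x'⟩ := hsg 1
  set r' := (L : Matrix (Fin 2 ⊕ Fin 2) (Fin 2 ⊕ Fin 2) F) *ᵥ r with hr'
  have hs2x : ∀ x, ((L * s2' * L⁻¹ : GL (Fin 2 ⊕ Fin 2) F) : Matrix (Fin 2 ⊕ Fin 2) (Fin 2 ⊕ Fin 2) F) *ᵥ x =
      x + (1 * sympB 2 F x v) • r' + (1 * sympB 2 F x r') • v := fun x => by
    obtain ⟨y, rfl⟩ : ∃ y, (L : Matrix (Fin 2 ⊕ Fin 2) (Fin 2 ⊕ Fin 2) F) *ᵥ y = x :=
      ⟨_, Max.mulVec_inv_cancel L x⟩
    have hLB := mem_spGL_iff.1 hL'
    rw [mulVec_mul_GL, mulVec_mul_GL, Max.inv_mulVec_cancel, hs2x', mulVec_add, mulVec_add, mulVec_smul,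
      mulVec_smul, hLv, ← hr', ← hLB y v, ← hLB y r, hLv, ← hr']
  have hs2 := mul_mem (mul_mem hLM hs2') (inv_mem hLM)
  have hvr' : sympB 2 F v r' = 0 := by
    conv_lhs => rw [← hLv, hr', mem_spGL_iff.1 hL', hvr]
  have hr'v : sympB 2 F r' v = 0 := by rw [B_swap, hvr', neg_zero]
  have hr'r : sympB 2 F r' r = -κ := by rw [B_swap, hκ]
  refine (show L * s2' * L⁻¹ * s1 * (L * s2' * L⁻¹)⁻¹ * s1⁻¹ = spTrv v c from ?_) ▸
    mul_mem (mul_mem (mul_mem hs2 hs1) (inv_mem hs2)) (inv_mem hs1)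
  rw [mul_inv_eq_iff_eq_mul, mul_inv_eq_iff_eq_mul]
  refine gl_ext fun q => ?_
  simp only [Max.mulVec_mul_GL (g := L * s2' * L⁻¹), Max.mulVec_mul_GL (g := spTrv v c),
    Max.mulVec_mul_GL (g := spTrv v c * s1), hs1x, hs2x, spTrv_apply, map_add, map_smul, LinearMap.add_apply,
    LinearMap.smul_apply, smul_eq_mul, B_self, hvr, hrv, hvr', hr'v, hr'r, ← hκ, mul_zero, add_zero, zero_add,
    one_mul]
  match_scalars <;> field_simp <;> ring

end Cfsg.Agent.Forms.Max.SpFour
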