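import Mathlib
import Cfsg.Agent.Lib.Forms.Max.SympExtAdjoint
import Cfsg.Agent.Lib.Forms.Max.SpFour.Ext

/-!
# Normalisers of adjoint-closed quadratic subfields in four-dimensional symplectic groups
-/

set_option autoImplicit false
open Cfsg

namespace Cfsg.Agent.Forms.Max.SpFour

/-- a field with at least five elements avoids few conditions -/
theorem exists_param {F : Type*} [Field F] [Fintype F] (h5 : 5 ≤ Fintype.card F) (d : F) :
    ∃ k : F, k ≠ 0 ∧ k + 1 ≠ 0 ∧ 1 + d * (k * k) ≠ 0 := by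
  classical
  by_contra hc
  push Not at hc
  obtain ⟨r, hr⟩ : ∃ r : F, ∀ k : F, 1 + d * (k * k) = 0 → k = r ∨ k = -r := by
    by_cases h : ∃ r : F, 1 + d * (r * r) = 0
    · obtain ⟨r, hr⟩ := h
      refine ⟨r, fun k hk => mul_self_eq_mul_self_iff.1 (mul_left_cancel₀ (a := d) ?_ (by linear_combination hk - hr))⟩
      intro hd
      rw [hd, zero_mul, add_zero] at hr
      exact one_ne_zero hr
    · push Not at h
      exact ⟨0, fun k hk => absurd hk (h k)⟩
  have h1 := Finset.card_le_card (show (Finset.univ : Finset F) ⊆ {0, -1, r, -r} from fun k _ => by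
    by_cases h0 : k = 0
    · simp [h0]
    by_cases hk1 : k + 1 = 0
    · simp [eq_neg_of_add_eq_zero_left hk1]
    rcases hr k (hc k h0 hk1) with h | h <;> simp [h])
  rw [Finset.card_univ] at h1
  have := h1.trans Finset.card_le_four
  omega

/-- normalisers of quadratic subfields with non-trivial adjoint are maximal in `Sp₄` -/
theorem adjoint_maximal {F : Type*} [Field F] [Fintype F] (h5 : 5 ≤ Fintype.card F) (hodd : Odd (Fintype.card F))
    (K : Subalgebra F (Matrix (Fin 2 ⊕ Fin 2) (Fin 2 ⊕ Fin 2) F)) (hK : Cfsg.Geo.IsFieldSubalgebra 2 K)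
    (hac : Cfsg.Geo.IsAdjointClosedFor (Cfsg.sympForm 2 F) K)
    (hnsa : ¬ Cfsg.Geo.IsSelfAdjointFor (Cfsg.sympForm 2 F) K) :
    Cfsg.Geo.IsMaximalIn (Cfsg.spGL 2 F) (Cfsg.Geo.subalgebraNormalizer K ⊓ Cfsg.spGL 2 F) :=
  SympExtAdjoint.maximal_of 2 le_rfl
    (fun D _ hMK hR _ hg h1 h2 => exists_centre D (exists_param h5 D.d) hMK hR hg h1 h2) hodd K hK hac hnsa

end Cfsg.Agent.Forms.Max.SpFour
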