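import Mathlib
import Cfsg.Agent.Lib.Forms.Max.SympPair

/-!
# Pairs of Lagrangian planes in four-dimensional symplectic space
-/

set_option autoImplicit false
set_option linter.unusedSectionVars false

namespace Cfsg.Agent.Forms.Max.SpFour

open Matrix Cfsg.Agent.Aschbacher Cfsg.Agent.Forms.SympStd

variable {F : Type*} [Field F]

local notation "Idx" => (Fin 2 ⊕ Fin 2)
local notation "Vec" => (Fin 2 ⊕ Fin 2 → F)
local notation "GLm" => GL (Fin 2 ⊕ Fin 2) F
local notation "B" => sympB 2 F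

open SympPair

/-- linear isometries occur in the symplectic group -/
theorem exists_of_isometry (L : Vec →ₗ[F] Vec) (hL : ∀ x y, B (L x) (L y) = B x y) :
    ∃ g ∈ Cfsg.spGL 2 F, ∀ x, (g : Matrix Idx Idx F) *ᵥ x = L x := by
  have hLinj : Function.Injective L := by
    rw [← LinearMap.ker_eq_bot, LinearMap.ker_eq_bot']
    intro x hx
    exact Symp.nondeg.1 x fun y => by rw [← hL, hx, map_zero, LinearMap.zero_apply]
  let Le := LinearEquiv.ofBijective L ⟨hLinj, LinearMap.injective_iff_surjective.1 hLinj⟩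
  let h : GLm := ⟨LinearMap.toMatrix' Le.toLinearMap, LinearMap.toMatrix' Le.symm.toLinearMap,
    by rw [← LinearMap.toMatrix'_comp]; simp, by rw [← LinearMap.toMatrix'_comp]; simp⟩
  have hh : ∀ x, (h : Matrix Idx Idx F) *ᵥ x = L x := fun x => by
    show LinearMap.toMatrix' Le.toLinearMap *ᵥ x = _
    rw [LinearMap.toMatrix'_mulVec]
    rfl
  exact ⟨h, Symp.mem_spGL_iff.2 fun x y => by rw [hh, hh, hL], hh⟩

/-- the torus of a hyperbolic line -/
theorem exists_torus {a w : Vec} (hκ : B a w = 1) (μ : F) (hμ : μ ≠ 0) :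
    ∃ g ∈ Cfsg.spGL 2 F, ∀ x, (g : Matrix Idx Idx F) *ᵥ x =
      x + ((μ - 1) * B x w) • a - ((μ⁻¹ - 1) * B x a) • w := by
  obtain ⟨g, hg, hgx⟩ := exists_of_isometry
    (LinearMap.id + (μ - 1) • ((B).flip w).smulRight a - (μ⁻¹ - 1) • ((B).flip a).smulRight w) fun x y => by
    simp only [LinearMap.sub_apply, LinearMap.add_apply, LinearMap.id_coe, id_eq, LinearMap.smul_apply,
      LinearMap.smulRight_apply, LinearMap.flip_apply, LinearMap.BilinForm.flip_apply, map_add, map_sub, map_smul, smul_eq_mul, Symp.B_self, hκ,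
      Symp.B_swap a w, Symp.B_swap y a, Symp.B_swap y w]
    field_simp
    ring
  exact ⟨g, hg, fun x => by rw [hgx]; simp [smul_smul]⟩

variable {M : Subgroup (GL (Fin 2 ⊕ Fin 2) F)} {W U : Submodule F (Fin 2 ⊕ Fin 2 → F)}

/-- two vectors that span a plane -/
theorem span_plane {A : Submodule F Vec} (hA : Module.finrank F A = 2) {u v : Vec} (hu : u ∈ A) (hv : v ∈ A)
    (hu0 : u ≠ 0) (huv : v ∉ Submodule.span F {u}) {z : Vec} (hz : z ∈ A) : ∃ s t : F, z = s • u + t • v := by
  have hli : LinearIndependent F ![u, v] := by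
    refine LinearIndependent.pair_iff.2 fun s t h => ?_
    have ht : t = 0 := by
      by_contra ht
      refine huv (Submodule.mem_span_singleton.2 ⟨-(s / t), ?_⟩)
      linear_combination (norm := (match_scalars <;> field_simp <;> ring)) (-t⁻¹) • h
    rw [ht, zero_smul, add_zero, smul_eq_zero] at h
    exact ⟨h.resolve_right hu0, ht⟩
  have hle : Submodule.span F (Set.range ![u, v]) ≤ A := Submodule.span_le.2 (by
    rintro _ ⟨i, rfl⟩
    fin_cases i <;> assumption)
  have heq := Submodule.eq_of_le_of_finrank_eq hle (by rw [finrank_span_eq_card hli, Fintype.card_fin, hA])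
  rw [← heq, range_cons_cons_empty, Submodule.mem_span_pair] at hz
  obtain ⟨s, t, h⟩ := hz
  exact ⟨s, t, h.symm⟩

/-- a moved vector gives a centre -/
theorem pair_centre (hμ : ∃ μ : F, μ ≠ 0 ∧ μ * μ ≠ 1) (h : Pair M W U)
    (hT : ∀ g ∈ Cfsg.spGL 2 F, Max.img g W = W → Max.img g U = U → g ∈ M)
    {a : Vec} (ha : a ∈ W) {g : GLm} (hg : g ∈ M)
    (hW : (g : Matrix Idx Idx F) *ᵥ a ∉ W) (hU : (g : Matrix Idx Idx F) *ᵥ a ∉ U) :
    ∃ w, w ≠ 0 ∧ (w ∈ W ∨ w ∈ U) ∧ w ∈ Symp.centres M := by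
  obtain ⟨μ, hμ0, hμ1⟩ := hμ
  have h2 := h.h2
  by_contra hcon
  have hB := Symp.mem_spGL_iff.1 (h.hMK hg)
  have hsplit : ∀ v : Vec, ∃ p ∈ W, ∃ p' ∈ U, v = p + p' := fun v => by
    obtain ⟨p, hp, p', hp', e⟩ := Submodule.mem_sup.1 (h.hC.sup_eq_top ▸ Submodule.mem_top : v ∈ W ⊔ U)
    exact ⟨p, hp, p', hp', e.symm⟩
  have hcomm : ∀ {z b b' : Vec}, (∀ t : F, SgS M z (t • b)) → SgS M z b' → B b' b ≠ 0 → z ∈ Symp.centres M := by
    intro z b b' hb hb' hne c
    have := sgS_comm (hb (c / (2 * B b' b))) hb'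
    rwa [map_smul, smul_eq_mul, show 2 * (c / (2 * B b' b) * B b' b) = c by field_simp] at this
  -- images off the quadric give a centre
  have hoff : ∀ {b : Vec}, b ∈ W ∨ b ∈ U → ∀ {x y : Vec}, x ∈ W → y ∈ U → (g : Matrix Idx Idx F) *ᵥ b = x + y →
      B x y = 0 := by
    intro b hb x y hx hy hxy
    by_contra hc
    have hx0 : x ≠ 0 := fun e => hc (by rw [e, map_zero, LinearMap.zero_apply])
    have hy0 : y ≠ 0 := fun e => hc (by rw [e, map_zero])
    have hb0 : b ≠ 0 := fun e => hx0 (by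
      subst e
      rw [mulVec_zero] at hxy
      exact Submodule.disjoint_def.1 h.hC.disjoint x hx
        (by rw [show x = -y from eq_neg_of_add_eq_zero_left hxy.symm]; exact U.neg_mem hy))
    -- a Siegel element at the image
    obtain ⟨v₀, hv₀, hindep, hSgv⟩ : ∃ v₀ : Vec, B b v₀ = 0 ∧ v₀ ∉ Submodule.span F {b} ∧
        ∀ t : F, SgS M b (t • v₀) := by
      rcases hb with hb | hb
      · obtain ⟨v, hv, hv0, hvf⟩ := exists_ne_zero_ker ![(B).flip b] (V := U) (by rw [h.hU]; omega)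
        refine ⟨v, swap0 (hvf 0), fun hm => hv0 ?_, fun t => h.hSg b hb _ (U.smul_mem t hv) (by
          rw [map_smul, LinearMap.smul_apply]; exact mul_eq_zero_of_right t (hvf 0))⟩
        obtain ⟨s, rfl⟩ := Submodule.mem_span_singleton.1 hm
        exact Submodule.disjoint_def.1 h.hC.disjoint _ (W.smul_mem s hb) hv
      · obtain ⟨v, hv, hv0, hvf⟩ := exists_ne_zero_ker ![(B).flip b] (V := W) (by rw [h.hW]; omega)
        refine ⟨v, swap0 (hvf 0), fun hm => hv0 ?_, fun t => h.symm.hSg b hb _ (W.smul_mem t hv) (by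
          rw [map_smul, LinearMap.smul_apply]; exact mul_eq_zero_of_right t (hvf 0))⟩
        obtain ⟨s, rfl⟩ := Submodule.mem_span_singleton.1 hm
        exact Submodule.disjoint_def.1 h.hC.disjoint _ hv (U.smul_mem s hb)
    set u := (g : Matrix Idx Idx F) *ᵥ b with hu
    set V := (g : Matrix Idx Idx F) *ᵥ v₀ with hV
    have hVs : ∀ t : F, SgS M u (t • V) := fun t => by
      rw [hu, hV, ← mulVec_smul]; exact sgS_map h.hMK (hSgv t) hg
    -- the complementary hyperbolic line
    obtain ⟨a₁, ha₁, ha₁0, ha₁f⟩ := exists_ne_zero_ker ![(B).flip y] (V := W) (by rw [h.hW]; omega)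
    obtain ⟨w₁, hw₁, hw₁0, hw₁f⟩ := exists_ne_zero_ker ![(B).flip x] (V := U) (by rw [h.hU]; omega)
    have hay : B a₁ y = 0 := ha₁f 0
    have hwx : B w₁ x = 0 := hw₁f 0
    have hxa : a₁ ∉ Submodule.span F {x} := fun hm => by
      obtain ⟨s, rfl⟩ := Submodule.mem_span_singleton.1 hm
      rw [map_smul, LinearMap.smul_apply, smul_eq_zero] at hay
      rcases hay with rfl | hay
      · exact ha₁0 (zero_smul _ _)
      · exact hc hay
    have hyw : w₁ ∉ Submodule.span F {y} := fun hm => by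
      obtain ⟨s, rfl⟩ := Submodule.mem_span_singleton.1 hm
      rw [map_smul, LinearMap.smul_apply, smul_eq_zero] at hwx
      rcases hwx with rfl | hwx
      · exact hw₁0 (zero_smul _ _)
      · exact hc (swap0 hwx)
    have hκ : B a₁ w₁ ≠ 0 := fun e => hw₁0 (h.eq_zero hw₁ fun z hz => by
      obtain ⟨s, t, rfl⟩ := span_plane h.hW hx ha₁ hx0 hxa hz
      simp [swap0 hwx, e])
    -- scale
    set w₂ := (B a₁ w₁)⁻¹ • w₁ with hw₂def
    have hw₂ : w₂ ∈ U := U.smul_mem _ hw₁
    have hw₂x : B w₂ x = 0 := by rw [hw₂def, map_smul, LinearMap.smul_apply, hwx, smul_zero]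
    have haw : B a₁ w₂ = 1 := by rw [hw₂def, map_smul, smul_eq_mul, inv_mul_cancel₀ hκ]
    have hyw₂ : w₂ ∉ Submodule.span F {y} := fun hm => hyw (by
      have := Submodule.smul_mem _ (B a₁ w₁) hm
      rwa [hw₂def, smul_inv_smul₀ hκ] at this)
    obtain ⟨p, hp, p', hp', hpp⟩ := hsplit V
    obtain ⟨s, r, rfl⟩ := span_plane h.hW hx ha₁ hx0 hxa hp
    obtain ⟨s', r', rfl⟩ := span_plane h.hU hy hw₂ hy0 hyw₂ hp'
    have hss : s' = s := by
      have e : B u V = 0 := by rw [hu, hV, hB]; exact hv₀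
      rw [hpp, hxy] at e
      simp only [map_add, map_smul, LinearMap.add_apply, smul_eq_mul, h.hWW x hx x hx, h.hWW x hx a₁ ha₁,
        h.hUU y hy y hy, h.hUU y hy w₂ hw₂, swap0 hw₂x, swap0 hay, Symp.B_swap x y, mul_zero, add_zero, zero_add]
        at e
      have e' : (s' - s) * B x y = 0 := by linear_combination e
      exact sub_eq_zero.1 ((mul_eq_zero.1 e').resolve_right hc)
    subst hss
    have hVeq : V = s' • u + r • a₁ + r' • w₂ := by rw [hpp, hxy]; module
    have hne : r ≠ 0 ∨ r' ≠ 0 := by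
      by_contra hn
      push Not at hn
      refine hindep (Submodule.mem_span_singleton.2 ⟨s', Max.mulVec_inj g ?_⟩)
      rw [mulVec_smul, ← hV, hVeq, hn.1, hn.2, zero_smul, zero_smul, add_zero, add_zero]
    -- the torus fixing the image
    obtain ⟨T, hT', hTx⟩ := exists_torus haw μ hμ0
    have hTM : T ∈ M := by
      refine hT T hT' (Submodule.eq_of_le_of_finrank_eq (fun z hz => ?_) (by rw [Max.finrank_img]))
        (Submodule.eq_of_le_of_finrank_eq (fun z hz => ?_) (by rw [Max.finrank_img]))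
      · obtain ⟨q, hq, rfl⟩ := Max.mem_img.1 hz
        rw [hTx, h.hWW q hq a₁ ha₁, mul_zero, zero_smul, sub_zero]
        exact W.add_mem hq (W.smul_mem _ ha₁)
      · obtain ⟨q, hq, rfl⟩ := Max.mem_img.1 hz
        rw [hTx, h.hUU q hq w₂ hw₂, mul_zero, zero_smul, add_zero]
        exact U.sub_mem hq (U.smul_mem _ hw₂)
    have hua : B u a₁ = 0 := by
      rw [hxy, map_add, LinearMap.add_apply, h.hWW x hx a₁ ha₁, swap0 hay, add_zero]
    have huw : B u w₂ = 0 := by
      rw [hxy, map_add, LinearMap.add_apply, swap0 hw₂x, h.hUU y hy w₂ hw₂, add_zero]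
    have hTu : (T : Matrix Idx Idx F) *ᵥ u = u := by
      rw [hTx, hua, huw]; simp
    have hTV : (T : Matrix Idx Idx F) *ᵥ V = s' • u + (μ * r) • a₁ + (μ⁻¹ * r') • w₂ := by
      rw [hTx, hVeq]
      simp only [map_add, map_smul, LinearMap.add_apply, LinearMap.smul_apply, smul_eq_mul, hua, huw, haw,
        Symp.B_self, Symp.B_swap a₁ w₂]
      module
    have hTS : ∀ t : F, SgS M u (t • (T : Matrix Idx Idx F) *ᵥ V) := fun t => by
      rw [← mulVec_smul, ← hTu]; exact sgS_map h.hMK (hVs t) hTM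
    have hau : B a₁ u = 0 := swap0 hua
    have hwu : B w₂ u = 0 := swap0 huw
    by_cases hrr : r * r' = 0
    swap
    · have hu' : u ∈ Symp.centres M := hcomm hVs (by simpa using hTS 1) (by
        rw [hTV, hVeq]
        simp only [map_add, map_smul, LinearMap.add_apply, LinearMap.smul_apply, smul_eq_mul, hua, huw, hau, hwu,
          haw, Symp.B_self, Symp.B_swap a₁ w₂, mul_zero, mul_one, add_zero, zero_add, mul_neg]
        intro e
        refine hμ1 ?_
        have e' : (μ - μ⁻¹) * (r * r') = 0 := by linear_combination e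
        have := sub_eq_zero.1 ((mul_eq_zero.1 e').resolve_right hrr)
        calc μ * μ = μ * μ⁻¹ := by rw [← this]
          _ = 1 := mul_inv_cancel₀ hμ0)
      obtain ⟨w, hw, hw0, hwc⟩ := h.centre_of_mixed hx hy hxy hc hu'
      exact hcon ⟨w, hw0, Or.inr hw, hwc⟩
    -- one coordinate only
    have hdiff : ∀ k : F, SgS M u (k • ((μ - 1) * r) • a₁ + k • ((μ⁻¹ - 1) * r') • w₂) := fun k => by
      have := sgS_add (hTS k) (hVs (-k)) (by
        rw [hTV, hVeq]
        simp only [map_add, map_smul, LinearMap.add_apply, LinearMap.smul_apply, smul_eq_mul, hua, huw, hau, hwu,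
          haw, Symp.B_self, Symp.B_swap a₁ w₂, mul_zero, mul_one, add_zero, zero_add, mul_neg]
        linear_combination (k * k * (μ - μ⁻¹) * (-1)) * hrr)
      convert this using 1
      rw [hTV, hVeq]
      module
    have hμne : μ - 1 ≠ 0 := fun e => hμ1 (by rw [sub_eq_zero.1 e, one_mul])
    have hμne' : μ⁻¹ - 1 ≠ 0 := fun e => hμne (by
      rw [sub_eq_zero, inv_eq_one] at e
      rw [e, sub_self])
    rcases mul_eq_zero.1 hrr with hr | hr'
    · have hr' : r' ≠ 0 := hne.resolve_left (by simp [hr])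
      have hA : ∀ k : F, SgS M u (k • w₂) := fun k => by
        have := hdiff (k / ((μ⁻¹ - 1) * r'))
        rwa [hr, mul_zero, zero_smul, smul_zero, zero_add, smul_smul, div_mul_cancel₀] at this
        exact mul_ne_zero hμne' hr'
      refine hcon ⟨w₂, fun e => hyw₂ (e ▸ zero_mem _), Or.inr hw₂, hcomm (fun t => ?_)
        (sgS_symm (by simpa using hA 1)) (b := x) ?_⟩
      · exact h.symm.hSg w₂ hw₂ (t • x) (W.smul_mem t hx) (by simp [swap0 hw₂x])
      · rw [hxy, map_add, LinearMap.add_apply, h.hWW x hx x hx, zero_add]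
        exact fun e => hc (swap0 e)
    · have hr : r ≠ 0 := hne.resolve_right (by simp [hr'])
      have hA : ∀ k : F, SgS M u (k • a₁) := fun k => by
        have := hdiff (k / ((μ - 1) * r))
        rwa [hr', mul_zero, zero_smul, smul_zero, add_zero, smul_smul, div_mul_cancel₀] at this
        exact mul_ne_zero hμne hr
      refine hcon ⟨a₁, ha₁0, Or.inl ha₁, hcomm (fun t => ?_) (sgS_symm (by simpa using hA 1)) (b := y) ?_⟩
      · exact h.hSg a₁ ha₁ (t • y) (U.smul_mem t hy) (by simp [swap0 hay])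
      · rw [hxy, map_add, LinearMap.add_apply, h.hUU y hy y hy, add_zero]
        exact hc
  obtain ⟨x, hx, y, hy, hxy⟩ := hsplit ((g : Matrix Idx Idx F) *ᵥ a)
  have hy0 : y ≠ 0 := fun e => hW (by rw [hxy, e, add_zero]; exact hx)
  have hx0 : x ≠ 0 := fun e => hU (by rw [hxy, e, zero_add]; exact hy)
  have hc := hoff (Or.inl ha) hx hy hxy
  -- the image of the first plane
  have hplane : ∀ a' ∈ W, ∃ s t : F, (g : Matrix Idx Idx F) *ᵥ a' = s • x + t • y := by
    intro a' ha'
    obtain ⟨x', hx', y', hy', hxy'⟩ := hsplit ((g : Matrix Idx Idx F) *ᵥ a')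
    have hs := hoff (Or.inl (W.add_mem ha ha')) (W.add_mem hx hx') (U.add_mem hy hy') (by
      rw [mulVec_add, hxy, hxy']; abel)
    have hb : B ((g : Matrix Idx Idx F) *ᵥ a) ((g : Matrix Idx Idx F) *ᵥ a') = 0 := by
      rw [hB]; exact h.hWW a ha a' ha'
    simp only [hxy, hxy', map_add, LinearMap.add_apply, h.hWW x hx x' hx', h.hUU y hy y' hy', Symp.B_swap x' y,
      zero_add, add_zero] at hb
    simp only [map_add, LinearMap.add_apply, hc, hoff (Or.inl ha') hx' hy' hxy', zero_add, add_zero] at hs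
    have e1 : B x y' = 0 := by
      have : 2 * B x y' = 0 := by linear_combination hs + hb
      exact (mul_eq_zero.1 this).resolve_left h2
    have e2 : B x' y = 0 := by linear_combination hs - e1
    obtain ⟨t, ht⟩ : ∃ t : F, y' = t • y := by
      by_contra hn
      have hy'' : y' ∉ Submodule.span F {y} := fun hm => hn (by
        obtain ⟨t, ht⟩ := Submodule.mem_span_singleton.1 hm; exact ⟨t, ht.symm⟩)
      refine hx0 (h.symm.eq_zero hx fun z hz => ?_)
      obtain ⟨s, t, rfl⟩ := span_plane h.hU hy hy' hy0 hy'' hz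
      simp [swap0 hc, swap0 e1]
    obtain ⟨s, hs'⟩ : ∃ s : F, x' = s • x := by
      by_contra hn
      have hx'' : x' ∉ Submodule.span F {x} := fun hm => hn (by
        obtain ⟨s, hs⟩ := Submodule.mem_span_singleton.1 hm; exact ⟨s, hs.symm⟩)
      refine hy0 (h.eq_zero hy fun z hz => ?_)
      obtain ⟨s, t, rfl⟩ := span_plane h.hW hx hx' hx0 hx'' hz
      simp [hc, e2]
    exact ⟨s, t, by rw [hxy', hs', ht]⟩
  have hindep : ∀ {s t : F}, s • x + t • y = 0 → s = 0 ∧ t = 0 := fun {s t} e => by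
    have h0 : s • x = 0 := Submodule.disjoint_def.1 h.hC.disjoint _ (W.smul_mem _ hx) (by
      rw [eq_neg_of_add_eq_zero_left e]; exact U.neg_mem (U.smul_mem _ hy))
    rw [h0, zero_add] at e
    exact ⟨(smul_eq_zero.1 h0).resolve_right hx0, (smul_eq_zero.1 e).resolve_right hy0⟩
  let P : Submodule F Vec := Submodule.span F {x, y}
  have hP : Max.img g W = P := by
    refine Submodule.eq_of_le_of_finrank_le (fun z hz => ?_) ?_
    · obtain ⟨a', ha', rfl⟩ := Max.mem_img.1 hz
      obtain ⟨s, t, e⟩ := hplane a' ha'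
      exact Submodule.mem_span_pair.2 ⟨s, t, e.symm⟩
    · rw [Max.finrank_img, h.hW]
      have := finrank_range_le_card (R := F) ![x, y]
      rw [range_cons_cons_empty, Fintype.card_fin] at this
      exact this
  have hPmem : x ∈ P ∧ y ∈ P := ⟨Submodule.subset_span (by simp), Submodule.subset_span (by simp)⟩
  -- a mixed vector in the image of the second plane
  obtain ⟨b, hb, x', hx', y', hy', hxy', hx'0, hy'0⟩ : ∃ b ∈ U, ∃ x' ∈ W, ∃ y' ∈ U,
      (g : Matrix Idx Idx F) *ᵥ b = x' + y' ∧ x' ≠ 0 ∧ y' ≠ 0 := by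
    by_contra hn
    push Not at hn
    have hcases : ∀ z ∈ Max.img g U, z ∈ W ∨ z ∈ U := fun z hz => by
      obtain ⟨b, hb, rfl⟩ := Max.mem_img.1 hz
      obtain ⟨x', hx', y', hy', e⟩ := hsplit ((g : Matrix Idx Idx F) *ᵥ b)
      by_cases h0 : x' = 0
      · right; rw [e, h0, zero_add]; exact hy'
      · left; rw [e, hn b hb x' hx' y' hy' e h0, add_zero]; exact hx'
    have hdis : ∀ z ∈ P, z ∈ Max.img g U → z = 0 := by
      intro z hz hz'
      rw [← hP] at hz
      obtain ⟨a', ha', rfl⟩ := Max.mem_img.1 hz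
      obtain ⟨b, hb, e⟩ := Max.mem_img.1 hz'
      have := Max.mulVec_inj g e
      subst this
      rw [Submodule.disjoint_def.1 h.hC.disjoint b ha' hb, mulVec_zero]
    rcases Max.le_or_le_of_forall hcases with hle | hle
    · have := Submodule.eq_of_le_of_finrank_eq hle (by rw [Max.finrank_img, h.hU, h.hW])
      exact hx0 (hdis x hPmem.1 (this.symm.le hx))
    · have := Submodule.eq_of_le_of_finrank_eq hle (by rw [Max.finrank_img])
      exact hy0 (hdis y hPmem.2 (this.symm.le hy))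
  have hc' := hoff (Or.inr hb) hx' hy' hxy'
  -- the image of the second plane meets both planes as well
  obtain ⟨c, hc0, hcW, hcU'⟩ : ∃ c, c ≠ 0 ∧ c ∈ W ∧ c ∈ Max.img g U := by
    by_contra hn
    push Not at hn
    have hsecond : ∀ z ∈ Max.img g U, z ∈ Submodule.span F {x' + y'} := by
      intro z hz
      obtain ⟨b', hb', rfl⟩ := Max.mem_img.1 hz
      obtain ⟨x'', hx'', y'', hy'', e⟩ := hsplit ((g : Matrix Idx Idx F) *ᵥ b')
      have hs := hoff (Or.inr (U.add_mem hb hb')) (W.add_mem hx' hx'') (U.add_mem hy' hy'') (by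
        rw [mulVec_add, hxy', e]; abel)
      have hb2 : B ((g : Matrix Idx Idx F) *ᵥ b) ((g : Matrix Idx Idx F) *ᵥ b') = 0 := by
        rw [hB]; exact h.hUU b hb b' hb'
      simp only [hxy', e, map_add, LinearMap.add_apply, h.hWW x' hx' x'' hx'', h.hUU y' hy' y'' hy'',
        Symp.B_swap x'' y', zero_add, add_zero] at hb2
      simp only [map_add, LinearMap.add_apply, hc', hoff (Or.inr hb') hx'' hy'' e, zero_add, add_zero] at hs
      have e1 : B x' y'' = 0 := by
        have : 2 * B x' y'' = 0 := by linear_combination hs + hb2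
        exact (mul_eq_zero.1 this).resolve_left h2
      obtain ⟨t, ht⟩ : ∃ t : F, y'' = t • y' := by
        by_contra hn'
        have hy3 : y'' ∉ Submodule.span F {y'} := fun hm => hn' (by
          obtain ⟨t, ht⟩ := Submodule.mem_span_singleton.1 hm; exact ⟨t, ht.symm⟩)
        refine hx'0 (h.symm.eq_zero hx' fun z hz => ?_)
        obtain ⟨s, t, rfl⟩ := span_plane h.hU hy' hy'' hy'0 hy3 hz
        simp [swap0 hc', swap0 e1]
      have hd : (g : Matrix Idx Idx F) *ᵥ b' - t • (x' + y') = x'' - t • x' := by rw [e, ht]; module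
      have hd0 : x'' - t • x' = 0 := by
        by_contra h0
        refine hn _ h0 (W.sub_mem hx'' (W.smul_mem _ hx')) (hd ▸ ?_)
        exact Submodule.sub_mem _ (Max.mulVec_mem_img hb')
          (Submodule.smul_mem _ _ (hxy' ▸ Max.mulVec_mem_img hb))
      exact Submodule.mem_span_singleton.2 ⟨t, by rw [e, ht, sub_eq_zero.1 hd0]; module⟩
    have h1 := Submodule.finrank_mono (show Max.img g U ≤ Submodule.span F {x' + y'} from hsecond)
    rw [Max.finrank_img, h.hU] at h1
    have h3 := finrank_span_singleton (K := F) (v := x' + y') (fun e => hx'0 (by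
      exact Submodule.disjoint_def.1 h.hC.disjoint x' hx'
        (by rw [eq_neg_of_add_eq_zero_left e]; exact U.neg_mem hy')))
    omega
  obtain ⟨v, hv, rfl⟩ := Max.mem_img.1 hcU'
  obtain ⟨a', ha', hax⟩ := Max.mem_img.1 (hP.symm ▸ hPmem.1 : x ∈ Max.img g W)
  have hva : B v a' = 0 := by rw [← hB, hax]; exact h.hWW _ hcW x hx
  have hxc : ∀ t : F, SgS M x (t • (g : Matrix Idx Idx F) *ᵥ v) := fun t => by
    rw [← mulVec_smul, ← hax]
    exact sgS_map h.hMK (h.hSg a' ha' (t • v) (U.smul_mem t hv) (by simp [hva])) hg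
  refine hcon ⟨x, hx0, Or.inl hx, hcomm hxc (h.hSg x hx y hy (swap0 hc)) fun e => hc0 ?_⟩
  -- the second vector is not orthogonal to the first
  have hnot : (g : Matrix Idx Idx F) *ᵥ v ∉ Submodule.span F {x} := fun hm => by
    obtain ⟨s, hs⟩ := Submodule.mem_span_singleton.1 hm
    rw [← hax, ← mulVec_smul] at hs
    have e' := Max.mulVec_inj g hs
    have := Submodule.disjoint_def.1 h.hC.disjoint v (e' ▸ W.smul_mem s ha') hv
    exact hc0 (by rw [this, mulVec_zero])
  exfalso
  refine hy0 (h.eq_zero hy fun z hz => ?_)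
  obtain ⟨s, t, rfl⟩ := span_plane h.hW hx hcW hx0 hnot hz
  simp [hc, swap0 e]

/-- stabilisers of pairs of Lagrangian planes are maximal -/
theorem pair_maximal (h2 : (2 : F) ≠ 0) (hμ : ∃ μ : F, μ ≠ 0 ∧ μ * μ ≠ 1) (hfW : Module.finrank F W = 2)
    (hfU : Module.finrank F U = 2) (hC : IsCompl W U)
    (hWW : ∀ x ∈ W, ∀ y ∈ W, B x y = 0) (hUU : ∀ x ∈ U, ∀ y ∈ U, B x y = 0)
    (G : Subgroup GLm) (hG : G ≤ Cfsg.spGL 2 F)
    (hlow : ∀ g ∈ Cfsg.spGL 2 F,
      ((Max.img g W = W ∧ Max.img g U = U) ∨ (Max.img g W = U ∧ Max.img g U = W)) → g ∈ G)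
    (hhigh : ∀ g ∈ G, (Max.img g W = W ∧ Max.img g U = U) ∨ (Max.img g W = U ∧ Max.img g U = W)) :
    Cfsg.Geo.IsMaximalIn (Cfsg.spGL 2 F) G :=
  pair_maximal_of h2 le_rfl (fun hP hT _ ha _ hg hW hU => pair_centre hμ hP hT ha hg hW hU)
    hfW hfU hC hWW hUU G hG hlow hhigh

end Cfsg.Agent.Forms.Max.SpFour
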