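import Cfsg.Agent.SympType4.Mono
import Cfsg.Agent.Lib.Forms.Max.UnitFrame.Maximal
import Cfsg.Agent.Lib.Forms.Max.Symp
import Cfsg.Agent.Lib.Forms.Spinor

/-!
# Normalisers of extraspecial groups of order 32 in four-dimensional symplectic groups

The five anticommuting involutions span the self-adjoint matrices of trace zero; conjugation maps the symplectic
group onto the derived group of the orthogonal group of the sum of five squares, and the normaliser goes to the
stabiliser of the frame.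
-/

set_option autoImplicit false
set_option linter.unusedSectionVars false

namespace Cfsg.Agent.Forms.Max.SpFour

open Matrix Cfsg.Agent.SympType4 Cfsg.Agent.Forms.Reflections Cfsg.Agent.Forms.QuadStd

variable {F : Type*} [Field F]

/-- the sum of five squares -/
noncomputable def Q5 (F : Type*) [Field F] : QuadraticForm F (Fin 5 → F) :=
  QuadraticMap.weightedSumSquares F (fun _ : Fin 5 => (1 : F))

theorem Q5_apply (x : Fin 5 → F) : Q5 F x = ∑ i, x i * x i := by
  simp [Q5, QuadraticMap.weightedSumSquares_apply]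

theorem Q5_polar (x y : Fin 5 → F) : QuadraticMap.polar (Q5 F) x y = 2 * ∑ i, x i * y i := by
  simp only [QuadraticMap.polar, Q5_apply, Pi.add_apply, Finset.mul_sum, ← Finset.sum_sub_distrib]
  exact Finset.sum_congr rfl fun i _ => by ring

theorem Q5_single (i : Fin 5) : Q5 F (Pi.single i 1) = 1 := by
  rw [Q5_apply, Finset.sum_eq_single i] <;> simp +contextual [Pi.single_apply]

theorem Q5_nondeg (h2 : (2 : F) ≠ 0) : (QuadraticMap.polarBilin (Q5 F)).Nondegenerate := by
  refine ⟨fun x hx => funext fun i => ?_, fun y hy => funext fun i => ?_⟩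
  · have h := hx (Pi.single i 1)
    rw [QuadraticMap.polarBilin_apply_apply, Q5_polar, Finset.sum_eq_single i] at h
    · simpa [h2] using h
    · intro j _ hj; simp [hj]
    · simp
  · have h := hy (Pi.single i 1)
    rw [QuadraticMap.polarBilin_apply_apply, Q5_polar, Finset.sum_eq_single i] at h
    · simpa [h2] using h
    · intro j _ hj; simp [hj]
    · simp

set_option quotPrecheck false in
local notation "Iso" => Cfsg.isometryGroup F ⇑(Q5 F)

/-- the image of a coordinate vector -/
noncomputable def X5 (e : Fin 5 → G4 F) : (Fin 5 → F) →ₗ[F] M4 F :=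
  Fintype.linearCombination F fun i => (e i : M4 F)

theorem X5_apply (e : Fin 5 → G4 F) (x : Fin 5 → F) : X5 e x = ∑ i, x i • (e i : M4 F) :=
  Fintype.linearCombination_apply _ _ _

theorem X5_single (e : Fin 5 → G4 F) (i : Fin 5) : X5 e (Pi.single i 1) = (e i : M4 F) := by
  simp [X5]

variable {R : Subgroup (G4 F)} {e : Fin 5 → G4 F}

theorem X5_sq (hF : Fam R e) (x : Fin 5 → F) : X5 e x * X5 e x = Q5 F x • (1 : M4 F) := by
  have hsq : ∀ i, (e i : M4 F) * (e i : M4 F) = 1 := fun i => by rw [← Units.val_mul, hF.sq]; rfl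
  have hanti : ∀ i j, i < j → (e j : M4 F) * (e i : M4 F) = -((e i : M4 F) * (e j : M4 F)) := fun i j h => by
    rw [← Units.val_mul, hF.anti j i h.ne', Units.val_neg, Units.val_mul]
  simp only [X5_apply, Q5_apply, Fin.sum_univ_five, add_mul, mul_add, Matrix.smul_mul, Matrix.mul_smul, hsq,
    hanti 0 1 (by decide), hanti 0 2 (by decide), hanti 0 3 (by decide), hanti 0 4 (by decide),
    hanti 1 2 (by decide), hanti 1 3 (by decide), hanti 1 4 (by decide), hanti 2 3 (by decide),
    hanti 2 4 (by decide), hanti 3 4 (by decide)]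
  module

theorem X5_polar (hF : Fam R e) (x y : Fin 5 → F) :
    X5 e x * X5 e y = QuadraticMap.polar (Q5 F) x y • (1 : M4 F) - X5 e y * X5 e x := by
  have h := X5_sq hF (x + y)
  rw [map_add, add_mul, mul_add, mul_add, X5_sq hF, X5_sq hF] at h
  rw [QuadraticMap.polar, sub_smul, sub_smul]
  linear_combination (norm := module) h

theorem X5_inj (hF : Fam R e) (D : Data R) : Function.Injective (X5 e) := by
  rw [injective_iff_map_eq_zero]
  intro x hx
  have hli := (hF.indep D).comp (fun i : Fin 5 => (some (i, 0) : Mon)) (fun i j h => by simpa using h)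
  rw [X5_apply] at hx
  funext i
  exact Fintype.linearIndependent_iff.1 hli x (by simpa [mono] using hx) i

/-- self-adjoint matrices of trace zero are combinations of the involutions -/
theorem exists_coord (hF : Fam R e) (D : Data R) {A : M4 F} (hA : A ∈ adj (1 : F))
    (htr : Matrix.trace A = 0) : ∃ x, X5 e x = A := by
  classical
  let w : Option (Fin 5) → adj (1 : F) := fun o => o.elim
    ⟨1, fun u v => by simp⟩ fun i => ⟨(e i : M4 F), mem_adj_of_sq (D.le_sp (hF.mem i)) (one_mul 1)
      (by rw [hF.sq, one_smul]; rfl)⟩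
  have hw : LinearIndependent F w := by
    refine LinearIndependent.of_comp (adj (1 : F)).subtype ?_
    have h := (hF.indep D).comp (fun o : Option (Fin 5) => o.map fun i => (i, (0 : Fin 3)))
      (Option.map_injective fun i j h => by simpa using h)
    convert h using 1
    funext o
    rcases o with _ | i <;> simp [w, mono]
  have htop : (⊤ : Submodule F (adj (1 : F))) = Submodule.span F (Set.range w) :=
    (hw.span_eq_top_of_card_eq_finrank (le_antisymm hw.fintype_card_le_finrank
      (by simpa using finrank_adj_one D.two))).symm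
  obtain ⟨c, hc⟩ := (Submodule.mem_span_range_iff_exists_fun F).1 (htop ▸ Submodule.mem_top (x := (⟨A, hA⟩ : adj (1 : F))))
  have hc' := congrArg Subtype.val hc
  simp [Fintype.sum_option, w] at hc'
  have h0 : c none = 0 := by
    have h := congrArg Matrix.trace hc'
    have htr0 : ∀ i, Matrix.trace (e i : M4 F) = 0 := fun i => D.trace_zero (hF.mem i) (hF.not_sim_one D.two i)
    simp only [Matrix.trace_add, Matrix.trace_smul, Matrix.trace_sum, w, Option.elim, htr, htr0, smul_zero,
      Finset.sum_const_zero] at h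
    simpa [four_ne D.two] using h
  refine ⟨fun i => c (some i), ?_⟩
  rw [X5_apply, ← hc', h0]
  simp [w]

theorem conj_coord (hF : Fam R e) (D : Data R) (g : ↥(Cfsg.spGL 2 F)) (x : Fin 5 → F) :
    ∃ y, X5 e y = ((g : G4 F) : M4 F) * X5 e x * (((g : G4 F)⁻¹ : G4 F) : M4 F) := by
  have hX : X5 e x ∈ adj (1 : F) := by
    rw [X5_apply]
    exact Submodule.sum_mem _ fun i _ => Submodule.smul_mem _ _
      (mem_adj_of_sq (D.le_sp (hF.mem i)) (one_mul 1) (by rw [hF.sq, one_smul]; rfl))
  refine exists_coord hF D (fun u v => ?_) ?_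
  · have hgB := Symp.mem_spGL_iff.1 g.2
    have h1 := hX ((((g : G4 F)⁻¹ : G4 F) : M4 F) *ᵥ u) ((((g : G4 F)⁻¹ : G4 F) : M4 F) *ᵥ v)
    rw [one_mul] at h1 ⊢
    rw [← Matrix.mulVec_mulVec, ← Matrix.mulVec_mulVec]
    calc Forms.SympStd.sympB 2 F (((g : G4 F) : M4 F) *ᵥ (X5 e x *ᵥ ((((g : G4 F)⁻¹ : G4 F) : M4 F) *ᵥ u))) v
        = Forms.SympStd.sympB 2 F (X5 e x *ᵥ ((((g : G4 F)⁻¹ : G4 F) : M4 F) *ᵥ u))
            ((((g : G4 F)⁻¹ : G4 F) : M4 F) *ᵥ v) := by
          conv_lhs => rw [← Max.mulVec_inv_cancel (g : G4 F) v]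
          rw [hgB]
      _ = Forms.SympStd.sympB 2 F ((((g : G4 F)⁻¹ : G4 F) : M4 F) *ᵥ u)
            (X5 e x *ᵥ ((((g : G4 F)⁻¹ : G4 F) : M4 F) *ᵥ v)) := h1
      _ = _ := by
          conv_rhs => rw [← Max.mulVec_inv_cancel (g : G4 F) u]
          rw [← Matrix.mulVec_mulVec, ← Matrix.mulVec_mulVec, hgB]
  · rw [Matrix.trace_units_conj, X5_apply, Matrix.trace_sum]
    exact Finset.sum_eq_zero fun i _ => by
      rw [Matrix.trace_smul, D.trace_zero (hF.mem i) (hF.not_sim_one D.two i), smul_zero]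

/-- conjugation as isometries of the five-space -/
theorem exists_phi (hF : Fam R e) (D : Data R) :
    ∃ φ : ↥(Cfsg.spGL 2 F) →* Iso, ∀ g x,
      X5 e (act (φ g) x) = ((g : G4 F) : M4 F) * X5 e x * (((g : G4 F)⁻¹ : G4 F) : M4 F) := by
  obtain ⟨P, hP⟩ := LinearMap.exists_leftInverse_of_injective (X5 e) (LinearMap.ker_eq_bot.2 (X5_inj hF D))
  have hPX : ∀ y, P (X5 e y) = y := fun y => LinearMap.congr_fun hP y
  let cj : ↥(Cfsg.spGL 2 F) → ((Fin 5 → F) →ₗ[F] (Fin 5 → F)) := fun g =>
    P ∘ₗ LinearMap.mulRight F (((g : G4 F)⁻¹ : G4 F) : M4 F) ∘ₗ LinearMap.mulLeft F ((g : G4 F) : M4 F) ∘ₗ X5 e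
  have hcj : ∀ g x, X5 e (cj g x) = ((g : G4 F) : M4 F) * X5 e x * (((g : G4 F)⁻¹ : G4 F) : M4 F) := fun g x => by
    obtain ⟨y, hy⟩ := conj_coord hF D g x
    show X5 e (P (((g : G4 F) : M4 F) * X5 e x * (((g : G4 F)⁻¹ : G4 F) : M4 F))) = _
    rw [← hy, hPX]
  let ψ : ↥(Cfsg.spGL 2 F) →* Matrix (Fin 5) (Fin 5) F :=
    { toFun := fun g => LinearMap.toMatrix' (cj g)
      map_one' := by
        rw [← LinearMap.toMatrix'_id]
        congr 1
        exact LinearMap.ext fun x => X5_inj hF D (by rw [hcj]; simp)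
      map_mul' := fun g h => by
        rw [← LinearMap.toMatrix'_comp]
        congr 1
        exact LinearMap.ext fun x => X5_inj hF D (by
          rw [hcj, LinearMap.comp_apply, hcj, hcj]
          simp only [Subgroup.coe_mul, _root_.mul_inv_rev, Units.val_mul, mul_assoc]) }
  have hψ : ∀ g x, X5 e ((ψ g) *ᵥ x) = ((g : G4 F) : M4 F) * X5 e x * (((g : G4 F)⁻¹ : G4 F) : M4 F) :=
    fun g x => by
      show X5 e (LinearMap.toMatrix' (cj g) *ᵥ x) = _
      rw [LinearMap.toMatrix'_mulVec, hcj]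
  have hmem : ∀ g, ψ.toHomUnits g ∈ Cfsg.isometryGroup F ⇑(Q5 F) := fun g u _ => by
    show Q5 F (ψ g *ᵥ u) = Q5 F u
    have h1 := X5_sq hF (ψ g *ᵥ u)
    rw [hψ, show ∀ a b c : M4 F, a * b * c * (a * b * c) = a * b * (c * a) * (b * c) from fun a b c => by
      simp only [mul_assoc], ← Units.val_mul, inv_mul_cancel, Units.val_one, mul_one,
      show ∀ a b c : M4 F, a * b * (b * c) = a * (b * b) * c from fun a b c => by simp only [mul_assoc],
      X5_sq hF, Matrix.mul_smul, mul_one, Matrix.smul_mul, ← Units.val_mul, mul_inv_cancel, Units.val_one] at h1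
    have h3 := congrFun (congrFun h1 (Sum.inl 0)) (Sum.inl 0)
    simpa using h3.symm
  exact ⟨ψ.toHomUnits.codRestrict _ hmem, fun g x => by
    rw [act_apply]
    exact hψ g x⟩

variable (φ : ↥(Cfsg.spGL 2 F) →* Cfsg.isometryGroup F ⇑(Q5 F))
  (hφ : ∀ g x, X5 e (act (φ g) x) = ((g : G4 F) : M4 F) * X5 e x * (((g : G4 F)⁻¹ : G4 F) : M4 F))
include hφ

/-- the kernel -/
theorem phi_ker (hF : Fam R e) (D : Data R) {g : ↥(Cfsg.spGL 2 F)} (h : φ g = 1) :
    (g : G4 F) = 1 ∨ (g : G4 F) = -1 := by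
  obtain ⟨c, hc⟩ := hF.scalar_of_comm D (X := ((g : G4 F) : M4 F)) fun i => by
    have h1 := hφ g (Pi.single i 1)
    rw [h, act_one, X5_single] at h1
    conv_rhs => rw [h1]
    simp [mul_assoc]
  exact scalar_sp g.2 hc

/-- products of two reflections of equal values are images -/
theorem pair_range (hF : Fam R e) (D : Data R) {x y : Fin 5 → F} (hx : Q5 F x ≠ 0) (hxy : Q5 F y = Q5 F x) :
    reflect (Q5 F) x * reflect (Q5 F) y ∈ φ.range := by
  set c := Q5 F x with hc
  have hadj : ∀ z, X5 e z ∈ adj (1 : F) := fun z => by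
    rw [X5_apply]
    exact Submodule.sum_mem _ fun i _ => Submodule.smul_mem _ _
      (mem_adj_of_sq (D.le_sp (hF.mem i)) (one_mul 1) (by rw [hF.sq, one_smul]; rfl))
  have hinv : ∀ x y : Fin 5 → F, Q5 F x = c → Q5 F y = c →
      (c⁻¹ • (X5 e x * X5 e y)) * (c⁻¹ • (X5 e y * X5 e x)) = (1 : M4 F) := fun x y hx' hy' => by
    rw [Matrix.smul_mul, Matrix.mul_smul, smul_smul,
      show X5 e x * X5 e y * (X5 e y * X5 e x) = X5 e x * (X5 e y * X5 e y) * X5 e x by simp only [mul_assoc],
      X5_sq hF, hy', Matrix.mul_smul, mul_one, Matrix.smul_mul, X5_sq hF, hx', smul_smul, smul_smul,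
      show c⁻¹ * c⁻¹ * c * c = 1 by field_simp, one_smul]
  let h : G4 F := ⟨c⁻¹ • (X5 e x * X5 e y), c⁻¹ • (X5 e y * X5 e x), hinv x y rfl hxy, hinv y x hxy rfl⟩
  have hh : h ∈ Cfsg.spGL 2 F := Symp.mem_spGL_iff.2 fun u v => by
    show Forms.SympStd.sympB 2 F ((c⁻¹ • (X5 e x * X5 e y)) *ᵥ u) ((c⁻¹ • (X5 e x * X5 e y)) *ᵥ v) = _
    have a1 := fun u v => (hadj x) u v
    have a2 := fun u v => (hadj y) u v
    simp only [one_mul] at a1 a2
    rw [Matrix.smul_mulVec, Matrix.smul_mulVec, map_smul, map_smul, LinearMap.smul_apply, ← Matrix.mulVec_mulVec,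
      ← Matrix.mulVec_mulVec, a1, a2, Matrix.mulVec_mulVec, Matrix.mulVec_mulVec, Matrix.mulVec_mulVec,
      show X5 e y * X5 e x * X5 e x = c • X5 e y by rw [mul_assoc, X5_sq hF, Matrix.mul_smul, mul_one],
      Matrix.smul_mul, X5_sq hF, hxy]
    simp only [Matrix.smul_mulVec, Matrix.one_mulVec, map_smul, smul_eq_mul]
    field_simp
  refine ⟨⟨h, hh⟩, Forms.QuadStd.iso_ext fun z => ?_⟩
  rw [← act_apply, ← act_apply]
  refine X5_inj hF D ?_
  rw [hφ, act_mul]
  show c⁻¹ • (X5 e x * X5 e y) * X5 e z * (c⁻¹ • (X5 e y * X5 e x)) = _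
  have hone : ∀ (x : Fin 5 → F), Q5 F x = c → ∀ z,
      X5 e x * X5 e z * X5 e x = (-c) • X5 e (act (reflect (Q5 F) x) z) := by
    intro x hx' z
    rw [act_reflect, map_sub, map_smul, hx', X5_polar hF x z, sub_mul, Matrix.smul_mul, one_mul, mul_assoc,
      X5_sq hF, hx', Matrix.mul_smul, mul_one, smul_sub, smul_smul,
      show -c * (c⁻¹ * QuadraticMap.polar (Q5 F) x z) = -QuadraticMap.polar (Q5 F) x z by field_simp]
    module
  rw [Matrix.smul_mul, Matrix.smul_mul, Matrix.mul_smul, smul_smul,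
    show X5 e x * X5 e y * X5 e z * (X5 e y * X5 e x) = X5 e x * (X5 e y * X5 e z * X5 e y) * X5 e x by
      simp only [mul_assoc], hone y hxy, Matrix.mul_smul, Matrix.smul_mul, hone x rfl, smul_smul, smul_smul,
    show c⁻¹ * c⁻¹ * -c * -c = 1 by field_simp, one_smul]

/-- the derived group is in the image -/
theorem omega_range [Fintype F] (hF : Fam R e) (D : Data R) : Cfsg.Omega F ⇑(Q5 F) ≤ φ.range := by
  let P0 : Subgroup Iso := Subgroup.closure
    {g | ∃ x y, Q5 F x ≠ 0 ∧ Q5 F y = Q5 F x ∧ g = reflect (Q5 F) x * reflect (Q5 F) y}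
  have hle : P0 ≤ φ.range := (Subgroup.closure_le _).2 (by
    rintro g ⟨x, y, hx, hxy, rfl⟩
    exact pair_range φ hφ hF D hx hxy)
  have hn : ∀ g : Iso, ∀ p ∈ P0, g * p * g⁻¹ ∈ P0 := by
    intro g p hp
    induction hp using Subgroup.closure_induction with
    | mem p hp =>
      obtain ⟨x, y, hx, hxy, rfl⟩ := hp
      refine Subgroup.subset_closure ⟨act g x, act g y, by rwa [act_map], by rw [act_map, act_map, hxy], ?_⟩
      rw [← Spinor.reflect_conj, ← Spinor.reflect_conj]
      group
    | one => simp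
    | mul a b _ _ ha hb =>
      rw [show g * (a * b) * g⁻¹ = g * a * g⁻¹ * (g * b * g⁻¹) by group]
      exact mul_mem ha hb
    | inv a _ ha =>
      rw [show g * a⁻¹ * g⁻¹ = (g * a * g⁻¹)⁻¹ by group]
      exact inv_mem ha
  refine le_trans ?_ hle
  rw [Cfsg.Omega, commutator_def, Subgroup.commutator_le]
  intro g _ h _
  rw [commutatorElement_def]
  have hmem : h ∈ refGroup (Q5 F) := by
    rw [refGroup_eq_top (Q5_nondeg D.two) (Or.inr (by simp))]; trivial
  unfold refGroup at hmem
  induction hmem using Subgroup.closure_induction with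
  | mem h hh =>
    obtain ⟨v, hv, rfl⟩ := hh
    rw [inv_eq_of_mul_eq_one_left (reflect_sq v), Spinor.reflect_conj]
    exact Subgroup.subset_closure ⟨act g v, v, by rwa [act_map], by rw [act_map], rfl⟩
  | one => simp
  | mul a b _ _ ha hb =>
    rw [show g * (a * b) * g⁻¹ * (a * b)⁻¹ = g * a * g⁻¹ * a⁻¹ * (a * (g * b * g⁻¹ * b⁻¹) * a⁻¹) by group]
    exact mul_mem (ha trivial) (hn a _ (hb trivial))
  | inv a _ ha =>
    rw [show g * a⁻¹ * g⁻¹ * a⁻¹⁻¹ = a⁻¹ * (g * a * g⁻¹ * a⁻¹)⁻¹ * a⁻¹⁻¹ by group]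
    exact hn a⁻¹ _ (inv_mem (ha trivial))

/-- the image lies in the derived group -/
theorem range_omega [Fintype F] (hF : Fam R e) (D : Data R) (g : ↥(Cfsg.spGL 2 F)) :
    φ g ∈ Cfsg.Omega F ⇑(Q5 F) := by
  classical
  set q := QuotientGroup.mk' (Cfsg.Omega F ⇑(Q5 F)) with hq
  have hcomm : ∀ a b, q a * q b = q b * q a := fun a b => mul_comm (Abelianization.of a) (Abelianization.of b)
  have hsq : ∀ a, q a * q a = 1 := by
    intro a
    have hmem : a ∈ refGroup (Q5 F) := by
      rw [refGroup_eq_top (Q5_nondeg D.two) (Or.inr (by simp))]; trivial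
    unfold refGroup at hmem
    induction hmem using Subgroup.closure_induction with
    | mem h hh =>
      obtain ⟨v, -, rfl⟩ := hh
      rw [← map_mul, reflect_sq, map_one]
    | one => simp
    | mul a b _ _ ha hb =>
      rw [map_mul, mul_assoc, ← mul_assoc (q b), ← hcomm a b, mul_assoc, hb, mul_one, ha]
    | inv a _ ha => rw [map_inv, ← _root_.mul_inv_rev, ha, inv_one]
  let K : Subgroup (G4 F) := (((q.comp φ).ker).map (Cfsg.spGL 2 F).subtype)
  have hK : Cfsg.spGL 2 F ≤ K := Symp.spGL_le_of_centres fun v c => by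
    refine Subgroup.mem_map.2 ⟨⟨_, Aschbacher.spTrv_mem v c⟩, ?_, rfl⟩
    set s : ↥(Cfsg.spGL 2 F) := ⟨_, Aschbacher.spTrv_mem v c⟩ with hs
    have hpow : ∀ k : ℕ, ((s ^ k : ↥(Cfsg.spGL 2 F)) : G4 F) = Aschbacher.spTrv v ((k : F) * c) := by
      intro k
      induction k with
      | zero =>
        refine Max.gl_ext fun x => ?_
        rw [Symp.spTrv_apply]
        simp
      | succ k ih =>
        refine Max.gl_ext fun x => ?_
        rw [pow_succ, Subgroup.coe_mul, ih, Max.mulVec_mul_GL, hs]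
        simp only [Symp.spTrv_apply, map_add, map_smul, LinearMap.add_apply, LinearMap.smul_apply, Symp.B_self,
          smul_eq_mul, mul_zero, add_zero, Nat.cast_succ]
        module
    have hodd : Odd (ringChar F) := (CharP.char_is_prime F (ringChar F)).odd_of_ne_two fun e => D.two (by
      have := CharP.cast_eq_zero F (ringChar F)
      rw [e] at this
      exact_mod_cast this)
    have h1 : s ^ ringChar F = 1 := Subtype.ext (Max.gl_ext fun x => by
      rw [hpow, Symp.spTrv_apply]; simp)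
    rw [MonoidHom.mem_ker]
    obtain ⟨k, hk⟩ := hodd
    have h3 := congrArg (q.comp φ) h1
    rw [map_pow, hk, pow_succ, pow_mul, pow_two, MonoidHom.comp_apply, hsq, one_pow, one_mul, map_one] at h3
    exact h3
  obtain ⟨g', hg', e'⟩ := Subgroup.mem_map.1 (hK g.2)
  have : g' = g := Subtype.ext e'
  subst this
  exact (QuotientGroup.eq_one_iff _).1 hg'

omit hφ in
/-- a non-monomial product of two reflections -/
theorem exists_nonmon [Fintype F] (D : Data R) : ∃ x y : Fin 5 → F, Q5 F x = 1 ∧ Q5 F y = 1 ∧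
    ¬ ∀ i, ∃ j, ∃ a : F, act (reflect (Q5 F) x * reflect (Q5 F) y) (Pi.single i 1) = a • Pi.single j 1 := by
  have h2 := D.two
  refine ⟨Pi.single 0 1, fun i => if i = 4 then 0 else 2⁻¹, Q5_single 0, ?_, fun h => ?_⟩
  · rw [Q5_apply]
    simp [Fin.sum_univ_five]
    field_simp
    ring
  · obtain ⟨j, a, ha⟩ := h 1
    rw [act_mul, act_reflect, act_reflect, Q5_single, show Q5 F (fun i => if i = 4 then 0 else 2⁻¹) = 1 by
      rw [Q5_apply]
      simp [Fin.sum_univ_five]
      field_simp
      ring] at ha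
    have e2 := congrFun ha 2
    have e3 := congrFun ha 3
    simp [Q5_polar, Fin.sum_univ_five, Pi.single_apply] at e2 e3
    split_ifs at e2 e3 with hj2 hj3 hj3
    all_goals first
      | exact absurd (hj2.trans hj3.symm) (by decide)
      | exact one_ne_zero (α := F) (by linear_combination -e2)
      | exact one_ne_zero (α := F) (by linear_combination -e3)
      | (field_simp at e2; exact one_ne_zero (α := F) (by linear_combination -e2))
      | (field_simp at e3; exact one_ne_zero (α := F) (by linear_combination -e3))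
      | (field_simp at e2; exact h2 (by linear_combination e2))
      | (field_simp at e3; exact h2 (by linear_combination e3))

end Cfsg.Agent.Forms.Max.SpFour
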