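import Cfsg.Agent.Lib.Forms.Max.SpFour.Type4

/-!
# Maximality of the normalisers of extraspecial groups of order 32
-/

set_option autoImplicit false
set_option linter.unusedSectionVars false

namespace Cfsg.Agent.Forms.Max.SpFour

open Matrix Cfsg.Agent.SympType4 Cfsg.Agent.Forms.Reflections Cfsg.Agent.Forms.QuadStd

variable {F : Type*} [Field F] [Fintype F]

/-- normalisers of extraspecial groups of order 32 and minus type are maximal over prime fields -/
theorem type4_maximal (hp : (Fintype.card F).Prime) {R : Subgroup (G4 F)} (D : Data R) :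
    Cfsg.Geo.IsMaximalIn (Cfsg.spGL 2 F) (Cfsg.Geo.subgroupNormalizer R ⊓ Cfsg.spGL 2 F) := by
  classical
  obtain ⟨e, hF⟩ := D.exists_fam
  obtain ⟨φ, hφ⟩ := exists_phi hF D
  -- monomial images and the normaliser
  have hto : ∀ g : ↥(Cfsg.spGL 2 F),
      (∀ i, ∃ j, ∃ a : F, act (φ g) (Pi.single i 1) = a • Pi.single j 1) →
      (g : G4 F) ∈ Cfsg.Geo.subgroupNormalizer R := by
    intro g hmon
    refine hF.normalizes D fun i => ?_
    obtain ⟨j, a, ha⟩ := hmon i
    have hQ := act_map (φ g) (Pi.single i (1 : F))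
    rw [ha, QuadraticMap.map_smul, Q5_single, Q5_single, smul_eq_mul, mul_one] at hQ
    have h := hφ g (Pi.single i 1)
    rw [ha, map_smul, X5_single, X5_single] at h
    rcases mul_self_eq_one_iff.1 hQ with rfl | rfl
    · rw [show (g : G4 F) * e i * (g : G4 F)⁻¹ = e j from Units.ext (by rw [one_smul] at h; simpa using h.symm)]
      exact hF.mem j
    · rw [show (g : G4 F) * e i * (g : G4 F)⁻¹ = -e j from Units.ext (by rw [neg_one_smul] at h; simpa using h.symm)]
      exact D.neg' (hF.mem j)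
  have hfrom : ∀ g : ↥(Cfsg.spGL 2 F), (g : G4 F) ∈ Cfsg.Geo.subgroupNormalizer R →
      ∀ i, ∃ j, ∃ a : F, act (φ g) (Pi.single i 1) = a • Pi.single j 1 := by
    intro g hg i
    obtain ⟨j, hj⟩ := hF.eq_gen D ((Subgroup.mem_normalizer_iff.1 hg (e i)).1 (hF.mem i))
      (by rw [show (g : G4 F) * e i * (g : G4 F)⁻¹ * ((g : G4 F) * e i * (g : G4 F)⁻¹) =
        (g : G4 F) * (e i * e i) * (g : G4 F)⁻¹ by group, hF.sq, mul_one, mul_inv_cancel])
      fun h => hF.not_sim_one D.two i (by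
        have := h.conj (g : G4 F)⁻¹
        simpa [mul_assoc] using this)
    refine ⟨j, ?_⟩
    rcases hj with h | h
    · refine ⟨1, X5_inj hF D ?_⟩
      rw [hφ, one_smul, X5_single, X5_single, ← h]
      simp
    · refine ⟨-1, X5_inj hF D ?_⟩
      rw [hφ, map_smul, X5_single, X5_single, neg_one_smul, ← Units.val_neg, ← h]
      simp
  refine isMaximalIn_of inf_le_right (fun hle => ?_) fun M hM hMK g hgM hg => ?_
  · obtain ⟨x, y, hx, hy, hnm⟩ := exists_nonmon D
    obtain ⟨s, hs⟩ := pair_range φ hφ hF D (x := x) (y := y) (by rw [hx]; exact one_ne_zero) (hy.trans hx.symm)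
    exact hnm (hs ▸ hfrom s (hle s.2).1)
  let M' : Subgroup (Cfsg.isometryGroup F ⇑(Q5 F)) :=
    (M.comap (Cfsg.spGL 2 F).subtype).map φ ⊓ Cfsg.Omega F ⇑(Q5 F)
  let S : UnitFrame.Setup (Q5 F) 5 :=
    { nd := Q5_nondeg D.two, two := D.two, five := le_rfl, five' := by simp, c := 1, c_ne := one_ne_zero
      e := fun i => Pi.single i 1, value := fun i => Q5_single i
      orth := fun i j h => by
        rw [Q5_polar, Finset.sum_eq_zero fun k _ => ?_, mul_zero]
        by_cases hk : k = i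
        · subst hk; simp [h]
        · simp [hk]
      span := eq_top_iff.2 fun x _ => (Submodule.mem_span_range_iff_exists_fun F).2 ⟨x, by
        funext k; simp [Finset.sum_apply, Pi.single_apply]⟩
      M := M'
      mono_mem := fun k hk hmon => by
        obtain ⟨s, rfl⟩ := omega_range φ hφ hF D hk
        exact ⟨Subgroup.mem_map_of_mem φ (hM ⟨hto s hmon, s.2⟩), hk⟩ }
  let g' : ↥(Cfsg.spGL 2 F) := ⟨g, hMK hgM⟩
  have hle := UnitFrame.Setup.omega_le (S := S) hp (Or.inl rfl) (g := φ g')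
    ⟨Subgroup.mem_map_of_mem φ (show g' ∈ M.comap (Cfsg.spGL 2 F).subtype from hgM),
      range_omega φ hφ hF D g'⟩ (fun hmon => hg ⟨hto g' hmon, hMK hgM⟩)
  intro s hs
  obtain ⟨m, hm, hms⟩ := Subgroup.mem_map.1 (hle (range_omega φ hφ hF D ⟨s, hs⟩)).1
  have hker : φ (m⁻¹ * ⟨s, hs⟩) = 1 := by rw [map_mul, map_inv, hms, inv_mul_cancel]
  have hneg : (-1 : G4 F) ∈ M := hM ⟨Subgroup.le_normalizer D.neg_mem, neg_mem_sp⟩
  rcases phi_ker φ hφ hF D hker with h | h
  · have h' : (m : G4 F)⁻¹ * s = 1 := h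
    exact (inv_mul_eq_one.1 h') ▸ hm
  · have h' : (m : G4 F)⁻¹ * s = -1 := h
    rw [inv_mul_eq_iff_eq_mul] at h'
    exact h' ▸ mul_mem hm hneg

end Cfsg.Agent.Forms.Max.SpFour
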